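import Groth.Agent.L20.NL.SelfPres
import Groth.Agent.L14.NLAmp.Main
import Groth.Agent.L10.DRing.KFlatLBC

/-!
# Derived base change of the naive cotangent complex with tor amplitude in `[-1, 0]`
-/

set_option autoImplicit false
set_option linter.style.haveILetI false
set_option backward.isDefEq.respectTransparency false
set_option backward.isDefEq.respectTransparency.types false
universe u

open CategoryTheory CategoryTheory.Limits TensorProduct HomologicalComplex

attribute [local instance] HasDerivedCategory.standard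

noncomputable section

namespace Groth.L20.NL

variable {B B' : Type u} [CommRing B] [CommRing B'] {M N : Type u} [AddCommGroup M] [Module B M] [AddCommGroup N]
  [Module B N]

/-- Termwise extension of scalars of a complex in two degrees. -/
theorem nonempty_bcCx_dbl [inst : Algebra B B'] (d : M →ₗ[B] N) :
    Nonempty ((Groth.L02.PC.bcCx (algebraMap B B')).obj (dbl d) ≅ dbl (d.baseChange B')) := by
  generalize hφ : algebraMap B B' = φ
  obtain rfl : inst = φ.toAlgebra := Algebra.algebra_ext _ _ fun r => by rw [hφ]; rfl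
  letI := φ.toAlgebra
  let F := ModuleCat.extendScalars.{u, u, u} φ
  let i₀ := doubleXIso₀ (ModuleCat.ofHom d) (show (ComplexShape.up ℤ).Rel (-1) 0 by simp)
  let i₁ := doubleXIso₁ (ModuleCat.ofHom d) (show (ComplexShape.up ℤ).Rel (-1) 0 by simp) (by decide)
  let a₀ : ModuleCat.of B' (B' ⊗[B] M) ⟶ ((Groth.L02.PC.bcCx φ).obj (dbl d)).X (-1) := F.map i₀.inv
  let a₁ : ModuleCat.of B' (B' ⊗[B] N) ⟶ ((Groth.L02.PC.bcCx φ).obj (dbl d)).X 0 := F.map i₁.inv
  have comm : a₀ ≫ ((Groth.L02.PC.bcCx φ).obj (dbl d)).d (-1) 0 = ModuleCat.ofHom (d.baseChange B') ≫ a₁ := by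
    have e : i₀.inv ≫ (dbl d).d (-1) 0 = ModuleCat.ofHom d ≫ i₁.inv := by
      rw [double_d _ _ (show (-1 : ℤ) ≠ 0 by decide)]
      simp [i₀, i₁]
    exact ((F.map_comp _ _).symm.trans (congrArg F.map e)).trans (F.map_comp _ _)
  let ψ : dbl (d.baseChange B') ⟶ (Groth.L02.PC.bcCx φ).obj (dbl d) :=
    mkHomFromDouble _ (by decide) a₀ a₁ comm fun k hk =>
      (F.map_isZero (isZero_double_X _ _ k (by simp at hk; omega) (by simp at hk; omega))).eq_of_tgt _ _
  haveI : IsIso a₀ := inferInstanceAs (IsIso (F.map i₀.inv))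
  haveI : IsIso a₁ := inferInstanceAs (IsIso (F.map i₁.inv))
  haveI : ∀ k, IsIso (ψ.f k) := fun k => by
    by_cases h₀ : k = -1
    · subst h₀
      rw [mkHomFromDouble_f₀]
      infer_instance
    · by_cases h₁ : k = 0
      · subst h₁
        rw [mkHomFromDouble_f₁]
        infer_instance
      · exact (Limits.IsZero.isIso (isZero_double_X _ _ k h₀ h₁)
          (F.map_isZero (isZero_double_X _ _ k h₀ h₁)) _)
  haveI := HomologicalComplex.Hom.isIso_of_components ψ
  exact ⟨(asIso ψ).symm⟩

variable (A : Type u) [CommRing A] [Algebra A B] (A' : Type u) [CommRing A'] [Algebra A' B'] [Algebra A A']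
  [Algebra B B'] [Algebra A B'] [IsScalarTower A A' B'] [IsScalarTower A B B'] [Algebra.IsPushout A A' B B']
  [Module.Flat A B]

theorem nonempty_LBaseChange_NL (hamp : DRing.HasTorAmplitudeIn B (-1) 0 (LCI.NL A B))
    [DRing.HasLBaseChange (algebraMap B B')] :
    Nonempty ((DRing.LBaseChange (algebraMap B B')).obj (LCI.NL A B) ≅ LCI.NL A' B') := by
  have hcot := Groth.L14.NLAmp.flat_self_of_amp hamp
  have hflat : DRing.TermwiseFlat (LCI.NLcx A B) := fun i => by
    rcases eq_or_ne i 0 with rfl | h0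
    · exact Groth.L14.NLAmp.flat_NLcx_zero
    · rcases eq_or_ne i (-1) with rfl | h1
      · exact Module.Flat.of_linearEquiv
          (doubleXIso₀ (ModuleCat.ofHom (Algebra.Generators.self A B).toExtension.cotangentComplex)
            (show (ComplexShape.up ℤ).Rel (-1) 0 by simp)).toLinearEquiv
      · haveI := ModuleCat.subsingleton_of_isZero
          (Groth.L14.NLAmp.vanishesOutside_NLcx (R := A) (B := B) i (by omega))
        exact inferInstance
  have hK := Groth.L10.KFlat.of_bounded (LCI.NLcx A B) 0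
    (fun i hi => Groth.L14.NLAmp.vanishesOutside_NLcx i (Or.inr hi)) hflat
  obtain ⟨e, -⟩ := exists_homotopyEquiv_bcMapSelf (R := A) (S := B) (R' := A') (S' := B') (Or.inr inferInstance)
  obtain ⟨j⟩ := nonempty_bcCx_dbl (B' := B') (Algebra.Generators.self A B).toExtension.cotangentComplex
  exact ⟨Groth.L10.KFlatLBC.lbcKF _ (LCI.NLcx A B) hK ≪≫ DerivedCategory.Q.mapIso j ≪≫
    asIso (DerivedCategory.Q.map e.hom)⟩

end Groth.L20.NL
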