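import Groth.Agent.L20.NL.IndEtale
import Groth.Agent.L19.H1Sheaf.Alg

/-!
# Naive cotangent complexes along formally étale changes of the base and ind-étale changes of the algebra
-/

set_option autoImplicit false
set_option linter.style.haveILetI false
set_option backward.isDefEq.respectTransparency.types false
universe u

open CategoryTheory TensorProduct Algebra

noncomputable section

namespace Groth.L20.NL

variable {A B B' A' : Type u} [CommRing A] [CommRing B] [CommRing B'] [Algebra A B] [Algebra B B'] [Algebra A B']
  [IsScalarTower A B B'] [CommRing A'] [Algebra A A'] [Algebra A' B'] [IsScalarTower A A' B']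

/-- The canonical map to the presentation over a larger base. -/
abbrev selfHom (A A' B B' : Type u) [CommRing A] [CommRing B] [CommRing B'] [Algebra A B] [Algebra B B'] [Algebra A B']
    [IsScalarTower A B B'] [CommRing A'] [Algebra A A'] [Algebra A' B'] [IsScalarTower A A' B'] :
    (Generators.self A B).toExtension.Hom (Generators.self A' B').toExtension :=
  ((Generators.self A B).defaultHom (Generators.self A' B')).toExtensionHom

/-- The projection to differentials on generators. -/
theorem toKaehler_tmul {R S : Type u} [CommRing R] [CommRing S] [Algebra R S] (P : Extension.{u} R S) (s : S) (p : P.Ring) :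
    P.toKaehler (s ⊗ₜ KaehlerDifferential.D R P.Ring p) = s • KaehlerDifferential.D R S (algebraMap P.Ring S p) := by
  rw [Extension.toKaehler, KaehlerDifferential.mapBaseChange_tmul, KaehlerDifferential.map_D]

/-- Degree zero cohomology of a map of presentations. -/
theorem toKaehler_map (G : Generators A B B) (G' : Generators A' B' B') (f : G.toExtension.Hom G'.toExtension)
    (y : G.toExtension.CotangentSpace) :
    G'.toExtension.toKaehler (Extension.CotangentSpace.map f y) =
      KaehlerDifferential.map A A' B B' (G.toExtension.toKaehler y) := by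
  suffices h : (G'.toExtension.toKaehler.restrictScalars B) ∘ₗ Extension.CotangentSpace.map f =
      (KaehlerDifferential.map A A' B B') ∘ₗ G.toExtension.toKaehler from LinearMap.congr_fun h y
  apply G.cotangentSpaceBasis.ext
  intro i
  rw [LinearMap.comp_apply, LinearMap.comp_apply, LinearMap.restrictScalars_apply,
    Generators.cotangentSpaceBasis_apply]
  erw [Extension.CotangentSpace.map_tmul f (1 : B) (MvPolynomial.X i : G.Ring)]
  erw [toKaehler_tmul, toKaehler_tmul]
  rw [map_one, one_smul, one_smul, KaehlerDifferential.map_D]
  congr 1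
  exact f.algebraMap_toRingHom _

/-- Degree zero cohomology of the base change map. -/
theorem toKaehler_c₀ (G : Generators A B B) (G' : Generators A' B' B')
    (f : G.toExtension.Hom G'.toExtension) (x : B' ⊗[B] G.toExtension.CotangentSpace) :
    G'.toExtension.toKaehler (c₀ f x) =
      (KaehlerDifferential.map A A' B B').liftBaseChange B' (G.toExtension.toKaehler.baseChange B' x) := by
  induction x with
  | zero => simp only [map_zero]
  | add a b ha hb => simp only [map_add, ha, hb]
  | tmul t y => rw [LinearMap.liftBaseChange_tmul, LinearMap.baseChange_tmul, LinearMap.liftBaseChange_tmul, map_smul,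
      toKaehler_map]

set_option maxHeartbeats 1000000 in
/-- Flat ind-étale formally étale changes of the algebra. -/
theorem quasiIso_bcMapSelf_indEtale [Module.Flat B B'] [FormallyEtale B B'] (hB : EtPBC.IsIndEtale B B') :
    QuasiIso (NLCx.bcMapSelf A B A B') := by
  let P := (Generators.self A B).toExtension
  let Q := (Generators.self A B').toExtension
  let h : P.Hom Q := selfHom A A B B'
  show QuasiIso (NLCx.bcMap h)
  rw [bcMap_eq]
  have hex : Function.Exact (Extension.h1Cotangentι (P := P) |>.baseChange B') (P.cotangentComplex.baseChange B') :=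
    Module.Flat.lTensor_exact B' (LinearMap.exact_subtype_ker_map _)
  have hc : ∀ x, c₁ h (Extension.h1Cotangentι.baseChange B' x) = (h1bc A B B' x).1 := fun x => by
    induction x with
    | zero => simp only [map_zero]; rfl
    | add a b ha hb => simp only [map_add, ha, hb]; rfl
    | tmul t y => rfl
  have hk : ∀ x, Q.toKaehler (c₀ h x) =
      KaehlerDifferential.mapBaseChange A B B' (P.toKaehler.baseChange B' x) := fun x => by
    rw [toKaehler_c₀ (Generators.self A B) (Generators.self A B') h x]
    refine LinearMap.congr_fun (?_ : (KaehlerDifferential.map A A B B').liftBaseChange B' =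
      KaehlerDifferential.mapBaseChange A B B') _
    exact TensorProduct.AlgebraTensorModule.ext fun t z => by
      rw [LinearMap.liftBaseChange_tmul, KaehlerDifferential.mapBaseChange_tmul]
  have he : Function.Exact (P.cotangentComplex.baseChange B') (P.toKaehler.baseChange B') :=
    lTensor_exact B' P.exact_cotangentComplex_toKaehler P.toKaehler_surjective
  have hbij := (KaehlerDifferential.tensorKaehlerEquivOfFormallyEtale A B B').bijective
  refine quasiIso_dblHom _ (fun x hx hax => ?_) (fun y hy => ?_) (fun x w hxw => ?_) fun y => ?_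
  · obtain ⟨v, rfl⟩ := (hex x).1 hx
    have : h1bc A B B' v = 0 := Subtype.ext ((hc v).symm.trans hax)
    rw [show v = 0 from h1bc_injective_indEtale B' hB (this.trans (map_zero _).symm), map_zero]
  · obtain ⟨v, hv⟩ := (Algebra.H1Cotangent.exact_liftBaseChange_map_of_flat (R := A) (S := B) (T := B') ⟨y, hy⟩).1
      (Subsingleton.elim _ _)
    refine ⟨Extension.h1Cotangentι.baseChange B' v, (hex _).2 ⟨v, rfl⟩, (hc v).trans ?_⟩
    exact congrArg Subtype.val hv
  · refine (he x).1 (hbij.1 ?_)
    rw [KaehlerDifferential.tensorKaehlerEquivOfFormallyEtale_apply,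
      KaehlerDifferential.tensorKaehlerEquivOfFormallyEtale_apply, map_zero, ← hk, hxw]
    exact (Q.exact_cotangentComplex_toKaehler _).2 ⟨w, rfl⟩
  · obtain ⟨t, ht⟩ := hbij.2 (Q.toKaehler y)
    obtain ⟨x, rfl⟩ := LinearMap.lTensor_surjective B' P.toKaehler_surjective t
    rw [KaehlerDifferential.tensorKaehlerEquivOfFormallyEtale_apply] at ht
    obtain ⟨w, hw⟩ := (Q.exact_cotangentComplex_toKaehler (y - c₀ h x)).1 (by
      rw [map_sub, hk]
      exact sub_eq_zero.2 ht.symm)
    exact ⟨x, w, by rw [hw, add_sub_cancel]⟩

set_option maxHeartbeats 1000000 in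
/-- Formally étale changes of the base. -/
theorem quasiIso_map_of_formallyEtale (A A' B : Type u) [CommRing A] [CommRing A'] [CommRing B] [Algebra A A']
    [Algebra A' B] [Algebra A B] [IsScalarTower A A' B] [FormallyEtale A A'] :
    QuasiIso (NLCx.map (selfHom A A' B B)) := by
  let P := (Generators.self A B).toExtension
  let Q := (Generators.self A' B).toExtension
  let h : P.Hom Q := selfHom A A' B B
  show QuasiIso (dblHom _ _ (Extension.Cotangent.map h) (Extension.CotangentSpace.map h)
    (Extension.CotangentSpace.map_comp_cotangentComplex h).symm)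
  have hH := Groth.L19.H1Sheaf.h1_map_bijective A A' B (Algebra.id B) (fun _ => rfl) inferInstance
  have hK : ∀ x, Q.toKaehler (Extension.CotangentSpace.map h x) = KaehlerDifferential.map A A' B B (P.toKaehler x) := by
    intro x
    exact toKaehler_map (B := B) (B' := B) (A := A) (A' := A') (Generators.self A B) (Generators.self A' B) h x
  have hKb : Function.Bijective (KaehlerDifferential.map A A' B B) := by
    refine ⟨?_, KaehlerDifferential.map_surjective A A' B⟩
    rw [injective_iff_map_eq_zero]
    intro z hz
    obtain ⟨t, rfl⟩ := (KaehlerDifferential.exact_mapBaseChange_map A A' B z).1 hz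
    rw [Subsingleton.elim t 0, map_zero]
  refine quasiIso_dblHom _ (fun x hx hax => ?_) (fun y hy => ?_) (fun x w hxw => ?_) fun y => ?_
  · exact congrArg Subtype.val (hH.1 (a₁ := (⟨x, hx⟩ : Algebra.H1Cotangent A B)) (a₂ := 0)
      ((Subtype.ext (hax : _ = (0 : Q.H1Cotangent).1)).trans (map_zero _).symm))
  · obtain ⟨⟨x, hx⟩, hv⟩ := hH.2 ⟨y, hy⟩
    exact ⟨x, hx, congrArg Subtype.val hv⟩
  · refine (P.exact_cotangentComplex_toKaehler x).1 (hKb.1 ?_)
    rw [map_zero, ← hK, hxw]
    exact (Q.exact_cotangentComplex_toKaehler _).2 ⟨w, rfl⟩
  · obtain ⟨t, ht⟩ := hKb.2 (Q.toKaehler y)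
    obtain ⟨x, rfl⟩ := P.toKaehler_surjective t
    obtain ⟨w, hw⟩ := (Q.exact_cotangentComplex_toKaehler (y - Extension.CotangentSpace.map h x)).1 (by
      rw [map_sub, hK]
      exact sub_eq_zero.2 ht.symm)
    exact ⟨x, w, by erw [hw]; rw [add_sub_cancel]⟩

/-- Homotopic maps are quasi-isomorphisms together. -/
theorem quasiIso_of_homotopic {C D : DRing.Cx B'} {φ ψ : C ⟶ D} (h : Homotopy φ ψ) [QuasiIso ψ] : QuasiIso φ :=
  Groth.L28.HomElt.quasiIso_of_bijective φ fun j => by
    rw [h.homologyMap_eq j]
    exact Groth.L28.HomElt.bijective_homologyMap_of_quasiIso ψ j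

set_option maxHeartbeats 1000000 in
/-- The base change map along a formally étale change of base and an ind-étale change of algebra. -/
theorem quasiIso_bcMapSelf_etale [FormallyEtale A A'] [Module.Flat B B'] [FormallyEtale B B']
    (hB : EtPBC.IsIndEtale B B') : QuasiIso (NLCx.bcMapSelf A B A' B') := by
  let f : (Generators.self A B).toExtension.Hom (Generators.self A B').toExtension := selfHom A A B B'
  let g : (Generators.self A B').toExtension.Hom (Generators.self A' B').toExtension := selfHom A A' B' B'
  haveI : QuasiIso (NLCx.bcMap f) := quasiIso_bcMapSelf_indEtale hB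
  haveI : QuasiIso (NLCx.map g) := quasiIso_map_of_formallyEtale A A' B'
  have hcomp : NLCx.bcMap f ≫ NLCx.map g = NLCx.bcMap (g.comp f) := by
    rw [bcMap_eq, bcMap_eq]
    exact (dblHom_comp (comm_c f) (Extension.CotangentSpace.map_comp_cotangentComplex g).symm).trans (dblHom_congr _ _
      (TensorProduct.AlgebraTensorModule.ext fun s x => by simp [c₁, Extension.Cotangent.map_comp])
      (TensorProduct.AlgebraTensorModule.ext fun s x => by simp [c₀, Extension.CotangentSpace.map_comp]))
  haveI : QuasiIso (NLCx.bcMap (g.comp f)) := hcomp ▸ inferInstance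
  exact quasiIso_of_homotopic (homotopic_bcMap (selfHom A A' B B') (g.comp f)).some

end Groth.L20.NL
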