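import Groth.Agent.L20.NL.QIso
import Groth.Agent.L23.EtaleLift
import Groth.Agent.L27.IndEtale
import Mathlib.RingTheory.Kaehler.JacobiZariski
import Mathlib.RingTheory.Etale.Kaehler
import Mathlib.RingTheory.MvPolynomial.Basic

/-!
# `H₁` of the cotangent complex along ind-étale maps
-/

set_option autoImplicit false
set_option linter.style.haveILetI false
set_option backward.isDefEq.respectTransparency.types false
universe u

open TensorProduct Algebra

noncomputable section

namespace Groth.L20.NL

variable {A B : Type u} [CommRing A] [CommRing B] [Algebra A B]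

/-- The comparison map of `H₁`. -/
abbrev h1bc (A B C : Type u) [CommRing A] [CommRing B] [CommRing C] [Algebra A B] [Algebra B C] [Algebra A C]
    [IsScalarTower A B C] : C ⊗[B] H1Cotangent A B →ₗ[C] H1Cotangent A C :=
  (H1Cotangent.map A A B C).liftBaseChange C

set_option maxHeartbeats 1000000 in
/-- For an étale map, base change is injective on `H₁`. -/
theorem h1bc_injective_etale (C : Type u) [CommRing C] [Algebra B C] [Algebra A C] [IsScalarTower A B C]
    [Etale B C] : Function.Injective (h1bc A B C) := by
  let P0 := (Generators.self A B).toExtension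
  let Pol := P0.Ring
  letI : Algebra Pol C := ((algebraMap B C).comp (algebraMap Pol B)).toAlgebra
  haveI : IsScalarTower Pol B C := .of_algebraMap_eq' rfl
  obtain ⟨C', _, _, ψ, hC', hψs, hψk⟩ :=
    Groth.L23.exists_etale_lift (P := Pol) (B := B) (C := C) P0.algebraMap_surjective
  haveI := hC'
  letI : Algebra A C' := ((algebraMap Pol C').comp (algebraMap A Pol)).toAlgebra
  haveI : IsScalarTower A Pol C' := .of_algebraMap_eq' rfl
  haveI : IsScalarTower A Pol C := .of_algebraMap_eq fun a => by
    show algebraMap A C a = algebraMap B C (algebraMap Pol B (algebraMap A Pol a))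
    rw [← IsScalarTower.algebraMap_apply A Pol B, ← IsScalarTower.algebraMap_apply A B C]
  let F : Algebra.Extension A C := .ofSurjective (ψ.restrictScalars A) hψs
  let f : P0.Hom F :=
    { toRingHom := algebraMap Pol C'
      toRingHom_algebraMap := fun x => (IsScalarTower.algebraMap_apply A Pol C' x).symm
      algebraMap_toRingHom := fun x => (ψ.commutes x).trans rfl }
  let alg : Algebra P0.Ring F.Ring := (inferInstance : Algebra Pol C')
  have halg : algebraMap P0.Ring F.Ring = f.toRingHom := rfl
  haveI hflat : Module.Flat P0.Ring F.Ring := (inferInstance : Module.Flat Pol C')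
  haveI : Module.Flat B C := inferInstance
  have H₂ : Function.Bijective ((f.mapKer halg).liftBaseChange F.Ring) := by
    constructor
    · have hfac : (F.ker.subtype.comp ((f.mapKer halg).liftBaseChange F.Ring)) =
          (AlgebraTensorModule.rid P0.Ring F.Ring F.Ring).toLinearMap.comp
            (AlgebraTensorModule.lTensor F.Ring F.Ring P0.ker.subtype) := by
        ext x; simp [Algebra.smul_def]; rfl
      have hinj : Function.Injective ((AlgebraTensorModule.rid P0.Ring F.Ring F.Ring).toLinearMap.comp
            (AlgebraTensorModule.lTensor F.Ring F.Ring P0.ker.subtype)) :=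
        (AlgebraTensorModule.rid P0.Ring F.Ring F.Ring).injective.comp
          (Module.Flat.lTensor_preserves_injective_linearMap (M := F.Ring) _ Subtype.val_injective)
      rw [← hfac] at hinj
      exact fun a b hab => hinj (congrArg F.ker.subtype hab)
    · rw [← LinearMap.range_eq_top]
      refine Submodule.map_injective_of_injective F.ker.subtype_injective ?_
      rw [Submodule.map_top, Submodule.range_subtype, ← LinearMap.range_comp]
      refine le_antisymm ?_ ?_
      · rintro _ ⟨x, rfl⟩
        exact ((f.mapKer halg).liftBaseChange F.Ring x).2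
      · change RingHom.ker ψ ≤ _
        rw [hψk]
        refine Ideal.span_le.2 ?_
        rintro _ ⟨p, hp, rfl⟩
        exact ⟨1 ⊗ₜ ⟨p, hp⟩, by simp; rfl⟩
  have hb : Function.Injective ((Extension.H1Cotangent.map f).liftBaseChange C) :=
    (Extension.tensorH1CotangentOfFormallyEtale f halg
      (RingHom.formallyEtale_algebraMap.mpr (inferInstance : FormallyEtale Pol C')) H₂).injective
  let h := ((Generators.self A B).defaultHom (Generators.self A C)).toExtensionHom
  let c : (Generators.self A C).toExtension.Hom F :=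
    { toRingHom := (MvPolynomial.aeval (R := A) fun x : C => F.σ x).toRingHom
      toRingHom_algebraMap := fun x => (MvPolynomial.aeval (R := A) fun x : C => F.σ x).commutes x
      algebraMap_toRingHom := fun x => by
        have h1 : (IsScalarTower.toAlgHom A F.Ring C).comp (MvPolynomial.aeval (R := A) fun x : C => F.σ x) =
            MvPolynomial.aeval (R := A) (id : C → C) := MvPolynomial.algHom_ext fun i => by simp
        exact AlgHom.congr_fun h1 x }
  have hsq : (Extension.H1Cotangent.map c).comp (h1bc A B C) = (Extension.H1Cotangent.map f).liftBaseChange C := by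
    refine TensorProduct.AlgebraTensorModule.ext fun t x => ?_
    show Extension.H1Cotangent.map c (t • Extension.H1Cotangent.map h x) = t • Extension.H1Cotangent.map f x
    rw [map_smul, ← Extension.H1Cotangent.map_comp_apply, Extension.H1Cotangent.map_eq (c.comp h) f]
  exact fun a b e => hb (by rw [← hsq, LinearMap.comp_apply, LinearMap.comp_apply, e])

/-- `H₁` maps compose. -/
theorem h1map_map {E E' : Type u} [CommRing E] [CommRing E'] [Algebra B E] [Algebra A E] [IsScalarTower A B E]
    [Algebra B E'] [Algebra A E'] [IsScalarTower A B E'] [Algebra E E'] [IsScalarTower A E E'] [IsScalarTower B E E']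
    (h : H1Cotangent A B) :
    H1Cotangent.map A A E E' (H1Cotangent.map A A B E h) = H1Cotangent.map A A B E' h := by
  unfold H1Cotangent.map
  rw [← Extension.H1Cotangent.map_comp_apply, Extension.H1Cotangent.map_eq]

/-- Naturality of the comparison map. -/
theorem h1bc_natural {E E' : Type u} [CommRing E] [CommRing E'] [Algebra B E] [Algebra A E] [IsScalarTower A B E]
    [Algebra B E'] [Algebra A E'] [IsScalarTower A B E'] [Algebra E E'] [IsScalarTower A E E'] [IsScalarTower B E E']
    (x : E ⊗[B] H1Cotangent A B) :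
    H1Cotangent.map A A E E' (h1bc A B E x) =
      h1bc A B E' ((IsScalarTower.toAlgHom B E E').toLinearMap.rTensor _ x) := by
  induction x with
  | zero => simp
  | add a b ha hb => simp only [map_add, ha, hb]
  | tmul t h =>
    simp only [LinearMap.liftBaseChange_tmul, LinearMap.rTensor_tmul, AlgHom.toLinearMap_apply, map_smul, h1map_map,
      IsScalarTower.coe_toAlgHom', algebraMap_smul]

/-- The default map of presentations on all elements renames the variables. -/
theorem defaultHom_toAlgHom {E E' : Type u} [CommRing E] [CommRing E'] [Algebra A E] [Algebra A E'] [Algebra E E']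
    [IsScalarTower A E E'] (p : MvPolynomial E A) :
    ((Generators.self A E).defaultHom (Generators.self A E')).toExtensionHom.toAlgHom p =
      MvPolynomial.rename (algebraMap E E') p := by
  show ((Generators.self A E).defaultHom (Generators.self A E')).toAlgHom p = _
  refine DFunLike.congr_fun (?_ : _ = MvPolynomial.rename (algebraMap E E')) p
  refine MvPolynomial.algHom_ext fun i => ?_
  simp [Algebra.Generators.Hom.toAlgHom, Algebra.Generators.defaultHom, Algebra.Generators.self]
  rfl

/-- A relation in the square of the kernel involves finitely many variables and relations. -/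
theorem exists_finite_sq {C : Type u} [CommRing C] [Algebra A C] {z : MvPolynomial C A}
    (hz : z ∈ RingHom.ker (MvPolynomial.aeval (R := A) (id : C → C)) ^ 2) :
    ∃ (s : Finset C) (G : Finset (MvPolynomial s A)), (∀ g ∈ G, MvPolynomial.aeval (fun i : s => (i : C)) g = 0) ∧
      ∃ q ∈ Ideal.span (G : Set (MvPolynomial s A)) ^ 2, MvPolynomial.rename (fun i : s => (i : C)) q = z := by
  classical
  rw [sq] at hz
  induction hz using Submodule.mul_induction_on' with
  | mem_mul_mem a ha b hb =>
    obtain ⟨s, a', rfl⟩ := MvPolynomial.exists_finset_rename a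
    obtain ⟨t, b', rfl⟩ := MvPolynomial.exists_finset_rename b
    let ia : {x // x ∈ s} → ↥(s ∪ t) := fun i => ⟨i.1, Finset.mem_union_left _ i.2⟩
    let ib : {x // x ∈ t} → ↥(s ∪ t) := fun i => ⟨i.1, Finset.mem_union_right _ i.2⟩
    refine ⟨s ∪ t, {MvPolynomial.rename ia a', MvPolynomial.rename ib b'}, ?_,
      MvPolynomial.rename ia a' * MvPolynomial.rename ib b', ?_, ?_⟩
    · intro g hg
      rcases Finset.mem_insert.1 hg with rfl | hg
      · rw [MvPolynomial.aeval_rename]
        exact (MvPolynomial.aeval_rename Subtype.val (id : C → C) a').symm.trans (RingHom.mem_ker.1 ha)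
      · rw [Finset.mem_singleton.1 hg, MvPolynomial.aeval_rename]
        exact (MvPolynomial.aeval_rename Subtype.val (id : C → C) b').symm.trans (RingHom.mem_ker.1 hb)
    · rw [sq]
      exact Ideal.mul_mem_mul (Ideal.subset_span (by simp)) (Ideal.subset_span (by simp))
    · rw [map_mul, MvPolynomial.rename_rename, MvPolynomial.rename_rename]
      rfl
  | add a _ b _ iha ihb =>
    obtain ⟨s, G, hG, p, hp, rfl⟩ := iha
    obtain ⟨t, H, hH, q, hq, rfl⟩ := ihb
    let ia : {x // x ∈ s} → ↥(s ∪ t) := fun i => ⟨i.1, Finset.mem_union_left _ i.2⟩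
    let ib : {x // x ∈ t} → ↥(s ∪ t) := fun i => ⟨i.1, Finset.mem_union_right _ i.2⟩
    have hle : ∀ {σ : Type u} (j : σ → ↥(s ∪ t)) (K : Finset (MvPolynomial σ A)) (M : Finset (MvPolynomial ↥(s ∪ t) A)),
        K.image (MvPolynomial.rename j) ⊆ M → ∀ r ∈ Ideal.span (K : Set (MvPolynomial σ A)) ^ 2,
          MvPolynomial.rename j r ∈ Ideal.span (M : Set (MvPolynomial ↥(s ∪ t) A)) ^ 2 := by
      intro σ j K M hKM r hr
      have h1 := Ideal.mem_map_of_mem (MvPolynomial.rename j) hr
      rw [Ideal.map_pow, Ideal.map_span] at h1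
      refine Ideal.pow_right_mono (Ideal.span_mono ?_) 2 h1
      rw [← Finset.coe_image]
      exact Finset.coe_subset.2 hKM
    refine ⟨s ∪ t, G.image (MvPolynomial.rename ia) ∪ H.image (MvPolynomial.rename ib), ?_,
      MvPolynomial.rename ia p + MvPolynomial.rename ib q, add_mem (hle ia G _ Finset.subset_union_left p hp)
        (hle ib H _ Finset.subset_union_right q hq), ?_⟩
    · intro g hg
      rcases Finset.mem_union.1 hg with hg | hg <;> obtain ⟨g', hg', rfl⟩ := Finset.mem_image.1 hg <;>
        rw [MvPolynomial.aeval_rename]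
      · exact hG g' hg'
      · exact hH g' hg'
    · rw [map_add, MvPolynomial.rename_rename, MvPolynomial.rename_rename]
      rfl

set_option maxHeartbeats 1000000 in
/-- Along an ind-étale map base change is injective on `H₁`. -/
theorem h1bc_injective_indEtale (B' : Type u) [CommRing B'] [Algebra B B'] [Algebra A B'] [IsScalarTower A B B']
    (hB : EtPBC.IsIndEtale B B') : Function.Injective (h1bc A B B') := by
  classical
  rw [injective_iff_map_eq_zero]
  intro x hx
  obtain ⟨S, rfl⟩ := TensorProduct.exists_finset x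
  rw [Groth.L27.IndEtale.isIndEtale_iff_exists_factor] at hB
  -- a stage with the coefficients
  obtain ⟨E₀, _, _, α₀, β₀, hE₀, hαβ₀⟩ := hB (MvPolynomial {p // p ∈ S} B) (MvPolynomial.aeval fun p => p.1.1)
  haveI := hE₀
  letI : Algebra A E₀ := ((algebraMap B E₀).comp (algebraMap A B)).toAlgebra
  haveI : IsScalarTower A B E₀ := .of_algebraMap_eq' rfl
  letI : Algebra E₀ B' := β₀.toRingHom.toAlgebra
  haveI : IsScalarTower B E₀ B' := .of_algebraMap_eq fun b => (β₀.commutes b).symm
  haveI : IsScalarTower A E₀ B' := .of_algebraMap_eq fun a => by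
    rw [IsScalarTower.algebraMap_apply A B B', IsScalarTower.algebraMap_apply B E₀ B']
    rfl
  let x₀ : E₀ ⊗[B] H1Cotangent A B := ∑ p : {p // p ∈ S}, α₀ (MvPolynomial.X p) ⊗ₜ p.1.2
  have hx₀ : (IsScalarTower.toAlgHom B E₀ B').toLinearMap.rTensor _ x₀ = ∑ i ∈ S, i.1 ⊗ₜ[B] i.2 := by
    rw [map_sum, ← Finset.sum_coe_sort S]
    refine Finset.sum_congr rfl fun p _ => ?_
    rw [LinearMap.rTensor_tmul]
    congr 1
    have := DFunLike.congr_fun hαβ₀ (MvPolynomial.X p)
    rw [AlgHom.comp_apply, MvPolynomial.aeval_X] at this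
    exact this
  have hy : H1Cotangent.map A A E₀ B' (h1bc A B E₀ x₀) = 0 := by rw [h1bc_natural, hx₀, hx]
  obtain ⟨⟨z, hz⟩, ezy⟩ := Extension.Cotangent.mk_surjective (h1bc A B E₀ x₀).1
  have hz' : MvPolynomial.rename (algebraMap E₀ B') z ∈ RingHom.ker (MvPolynomial.aeval (R := A) (id : B' → B')) ^ 2 := by
    have e := congrArg (fun w : H1Cotangent A B' => w.1) hy
    replace e : Extension.Cotangent.map
        ((Generators.self A E₀).defaultHom (Generators.self A B')).toExtensionHom (h1bc A B E₀ x₀).1 = 0 := e
    rw [← ezy, Extension.Cotangent.map_mk, Extension.Cotangent.mk_eq_zero_iff] at e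
    have e1 : MvPolynomial.rename (algebraMap E₀ B') z ∈ (Generators.self A B').toExtension.ker ^ 2 := by
      rw [← defaultHom_toAlgHom]
      exact e
    have e2 : (Generators.self A B').toExtension.ker = RingHom.ker (MvPolynomial.aeval (R := A) (id : B' → B')) :=
      Ideal.ext fun w => by
        show algebraMap (Generators.self A B').Ring B' w = 0 ↔ _
        rw [Generators.algebraMap_apply]
        rfl
    rwa [e2] at e1
  obtain ⟨s, G, hG, q, hq, hqz⟩ := exists_finite_sq hz'
  obtain ⟨s₀, z₀, rfl⟩ := MvPolynomial.exists_finset_rename z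
  let s' := s ∪ s₀.image (algebraMap E₀ B')
  let is : {x // x ∈ s} → ↥s' := fun i => ⟨i.1, Finset.mem_union_left _ i.2⟩
  let i₀ : {x // x ∈ s₀} → ↥s' := fun i => ⟨algebraMap E₀ B' i.1, Finset.mem_union_right _ (Finset.mem_image_of_mem _ i.2)⟩
  have heq : MvPolynomial.rename is q = MvPolynomial.rename i₀ z₀ := by
    apply MvPolynomial.rename_injective (fun i : ↥s' => (i : B')) Subtype.val_injective
    rw [MvPolynomial.rename_rename, MvPolynomial.rename_rename]
    rw [MvPolynomial.rename_rename] at hqz
    exact hqz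
  -- the stage with the relations
  let ev : MvPolynomial s' A →ₐ[A] MvPolynomial s' E₀ := MvPolynomial.mapAlgHom (Algebra.ofId A E₀)
  let R : Finset (MvPolynomial s' E₀) := G.image (fun g => ev (MvPolynomial.rename is g)) ∪
    Finset.univ.image (fun i : {x // x ∈ s₀} => MvPolynomial.X (i₀ i) - MvPolynomial.C (i : E₀))
  let I : Ideal (MvPolynomial s' E₀) := Ideal.span (R : Set (MvPolynomial s' E₀))
  haveI : Algebra.FinitePresentation E₀ (MvPolynomial s' E₀ ⧸ I) := Algebra.FinitePresentation.quotient ⟨R, rfl⟩
  haveI : Algebra.FinitePresentation B (MvPolynomial s' E₀ ⧸ I) := Algebra.FinitePresentation.trans B E₀ _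
  let φ : MvPolynomial s' E₀ →ₐ[E₀] B' := MvPolynomial.aeval fun i => (i : B')
  have hev : ∀ p : MvPolynomial s' A, φ (ev p) = MvPolynomial.aeval (fun i : ↥s' => (i : B')) p := fun p => by
    show MvPolynomial.aeval _ (MvPolynomial.map (algebraMap A E₀) p) = _
    rw [MvPolynomial.aeval_map_algebraMap]
  have hI : ∀ a ∈ I, φ a = 0 := fun a ha => by
    refine RingHom.mem_ker.1 (Ideal.span_le (I := RingHom.ker φ).2 ?_ ha)
    intro r hr
    rcases Finset.mem_union.1 hr with hr | hr <;> obtain ⟨g, hg, rfl⟩ := Finset.mem_image.1 hr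
    · show φ (ev _) = 0
      rw [hev, MvPolynomial.aeval_rename]
      exact hG g hg
    · show φ _ = 0
      simp [φ, i₀]
  obtain ⟨E, _, _, α, β, hE, hαβ⟩ := hB _ ((Ideal.Quotient.liftₐ I φ hI).restrictScalars B)
  haveI := hE
  letI : Algebra A E := ((algebraMap B E).comp (algebraMap A B)).toAlgebra
  haveI : IsScalarTower A B E := .of_algebraMap_eq' rfl
  let j : E₀ →ₐ[B] E := α.comp (IsScalarTower.toAlgHom B E₀ (MvPolynomial s' E₀ ⧸ I))
  letI : Algebra E₀ E := j.toRingHom.toAlgebra
  haveI : IsScalarTower B E₀ E := .of_algebraMap_eq fun b => (j.commutes b).symm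
  haveI : IsScalarTower A E₀ E := .of_algebraMap_eq fun a => by
    rw [IsScalarTower.algebraMap_apply A B E, IsScalarTower.algebraMap_apply A B E₀,
      ← IsScalarTower.algebraMap_apply B E₀ E]
  let τ : ↥s' → E := fun i => α (Ideal.Quotient.mk I (MvPolynomial.X i))
  have hj : ∀ i : {x // x ∈ s₀}, algebraMap E₀ E (i : E₀) = τ (i₀ i) := fun i => by
    show α (Ideal.Quotient.mk I (MvPolynomial.C (i : E₀))) = α (Ideal.Quotient.mk I (MvPolynomial.X (i₀ i)))
    congr 1
    have h' : MvPolynomial.X (i₀ i) - MvPolynomial.C i.1 ∈ I :=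
      Ideal.subset_span (Finset.mem_union_right _ (Finset.mem_image.2 ⟨i, Finset.mem_univ _, rfl⟩))
    exact (Ideal.Quotient.eq.2 h').symm
  let αq : MvPolynomial s' A →ₐ[A] E :=
    ((α.restrictScalars A).comp ((Ideal.Quotient.mkₐ E₀ I).restrictScalars A)).comp ev
  have hρ : ∀ g ∈ G, MvPolynomial.rename (τ ∘ is) g ∈ (Generators.self A E).toExtension.ker := fun g hg => by
    show algebraMap (Generators.self A E).Ring E _ = 0
    rw [Generators.algebraMap_apply]
    show MvPolynomial.aeval (id : E → E) _ = 0
    rw [MvPolynomial.aeval_rename]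
    have e : αq.comp (MvPolynomial.rename is) = MvPolynomial.aeval (id ∘ τ ∘ is) :=
      MvPolynomial.algHom_ext fun i => by simp [αq, ev, τ]
    rw [← e]
    show α (Ideal.Quotient.mk I (ev (MvPolynomial.rename is g))) = 0
    rw [Ideal.Quotient.eq_zero_iff_mem.2 (Ideal.subset_span (Finset.mem_union_left _ (Finset.mem_image_of_mem _ hg))),
      map_zero]
  have h0 : H1Cotangent.map A A E₀ E (h1bc A B E₀ x₀) = 0 := by
    refine Subtype.ext ?_
    show Extension.Cotangent.map ((Generators.self A E₀).defaultHom (Generators.self A E)).toExtensionHom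
      (h1bc A B E₀ x₀).1 = 0
    rw [← ezy, Extension.Cotangent.map_mk, Extension.Cotangent.mk_eq_zero_iff]
    show ((Generators.self A E₀).defaultHom (Generators.self A E)).toExtensionHom.toAlgHom
      (MvPolynomial.rename (fun i : {x // x ∈ s₀} => (i : E₀)) z₀) ∈ _
    rw [defaultHom_toAlgHom, MvPolynomial.rename_rename, show (algebraMap E₀ E ∘ fun i : {x // x ∈ s₀} => (i : E₀)) = τ ∘ i₀ from funext hj,
      ← MvPolynomial.rename_rename, ← heq, MvPolynomial.rename_rename]
    have h1 := Ideal.mem_map_of_mem (MvPolynomial.rename (τ ∘ is)) hq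
    rw [Ideal.map_pow, Ideal.map_span] at h1
    exact Ideal.pow_right_mono (Ideal.span_le.2 (by rintro _ ⟨g, hg, rfl⟩; exact hρ g hg)) 2 h1
  rw [h1bc_natural] at h0
  have h1 : (IsScalarTower.toAlgHom B E₀ E).toLinearMap.rTensor _ x₀ = 0 :=
    h1bc_injective_etale E (h0.trans (map_zero _).symm)
  have hβ : (β : E →ₐ[B] B').comp (IsScalarTower.toAlgHom B E₀ E) = IsScalarTower.toAlgHom B E₀ B' := by
    refine AlgHom.ext fun e => ?_
    show β (α (Ideal.Quotient.mk I (MvPolynomial.C e))) = algebraMap E₀ B' e
    rw [show β (α (Ideal.Quotient.mk I (MvPolynomial.C e))) = φ (MvPolynomial.C e) from DFunLike.congr_fun hαβ _]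
    simp [φ]
  rw [← hx₀, ← hβ]
  show (β.toLinearMap ∘ₗ (IsScalarTower.toAlgHom B E₀ E).toLinearMap).rTensor _ x₀ = 0
  rw [LinearMap.rTensor_comp, LinearMap.comp_apply, h1, map_zero]

end Groth.L20.NL
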