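import Groth.Agent.L20.NL.SelfPres
import Groth.Agent.L14.NLAmp.Main

/-!
# The kernel of base change on `H^{-1}` for complete intersections
-/

set_option autoImplicit false
set_option linter.style.haveILetI false
set_option backward.isDefEq.respectTransparency.types false
universe u

open CategoryTheory TensorProduct Algebra

noncomputable section

namespace Groth.L20.NL

section Transfer

variable {R S R' S' : Type u} [CommRing R] [CommRing S] [Algebra R S] [CommRing R'] [CommRing S'] [Algebra R' S']
  [Algebra R R'] [Algebra S S'] [Algebra R S'] [IsScalarTower R R' S'] [IsScalarTower R S S']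
variable {P Q : Algebra.Extension.{u} R S} {P' Q' : Algebra.Extension.{u} R' S'}

/-- A map of presentations of the same ring on base changed `H^{-1}`. -/
def bcH1Same (a : P.Hom Q) : NLCx.bcH1 P S' →ₗ[S'] NLCx.bcH1 Q S' :=
  ((Extension.Cotangent.map a).baseChange S').restrict fun x hx => by
    have := LinearMap.congr_fun (comm_same (S' := S') a) x
    simp only [LinearMap.comp_apply] at this
    show Q.cotangentComplex.baseChange S' _ = 0
    rw [this, show P.cotangentComplex.baseChange S' x = 0 from hx, map_zero]

theorem bcH1Same_comp_eq (a : P.Hom Q) (b : Q.Hom P) (x : NLCx.bcH1 P S') : bcH1Same b (bcH1Same a x) = x := by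
  refine Subtype.ext ?_
  show ((Extension.Cotangent.map b).baseChange S') (((Extension.Cotangent.map a).baseChange S') x.1) = x.1
  rw [← LinearMap.comp_apply, ← LinearMap.baseChange_comp]
  have h0 : (Extension.Cotangent.map (b.comp a)).baseChange S' - (Extension.Cotangent.map (Extension.Hom.id P)).baseChange S' =
      (((b.comp a).sub (Extension.Hom.id P)).baseChange S') ∘ₗ P.cotangentComplex.baseChange S' := by
    rw [← LinearMap.baseChange_sub, Extension.Cotangent.map_sub_map, LinearMap.baseChange_comp]
  have h := LinearMap.congr_fun h0 x.1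
  rw [LinearMap.sub_apply, LinearMap.comp_apply, show P.cotangentComplex.baseChange S' x.1 = 0 from x.2, map_zero,
    sub_eq_zero, Extension.Cotangent.map_id, LinearMap.baseChange_id, LinearMap.id_apply] at h
  refine Eq.trans ?_ h
  congr 1
  rw [Extension.Cotangent.map_comp]
  rfl

/-- The kernels of base change on `H^{-1}` agree for presentations connected both ways. -/
theorem nonempty_ker_equiv (a : P.Hom Q) (b : Q.Hom P) (a' : Q'.Hom P') (b' : P'.Hom Q') (f : Q.Hom Q')
    (g : P.Hom P') :
    Nonempty (LinearMap.ker (NLCx.bcH1Map f) ≃ₗ[S'] LinearMap.ker (NLCx.bcH1Map g)) := by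
  have h1 : ∀ x ∈ LinearMap.ker (NLCx.bcH1Map f), bcH1Same b x ∈ LinearMap.ker (NLCx.bcH1Map g) := fun x hx => by
    refine LinearMap.mem_ker.2 (Subtype.ext ?_)
    show c₁ g ((Extension.Cotangent.map b).baseChange S' x.1) = 0
    rw [← LinearMap.comp_apply, ← c₁_comp_same, c₁_eq_of_mem (g.comp b) (a'.comp f) x.2, c₁_comp_map,
      LinearMap.comp_apply, show c₁ f x.1 = 0 from congrArg Subtype.val hx, map_zero]
  have h2 : ∀ x ∈ LinearMap.ker (NLCx.bcH1Map g), bcH1Same a x ∈ LinearMap.ker (NLCx.bcH1Map f) := fun x hx => by
    refine LinearMap.mem_ker.2 (Subtype.ext ?_)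
    show c₁ f ((Extension.Cotangent.map a).baseChange S' x.1) = 0
    rw [← LinearMap.comp_apply, ← c₁_comp_same, c₁_eq_of_mem (f.comp a) (b'.comp g) x.2, c₁_comp_map,
      LinearMap.comp_apply, show c₁ g x.1 = 0 from congrArg Subtype.val hx, map_zero]
  exact ⟨LinearEquiv.ofLinearMap ((bcH1Same b).restrict h1) ((bcH1Same a).restrict h2)
    (LinearMap.ext fun x => Subtype.ext (bcH1Same_comp_eq a b x.1))
    (LinearMap.ext fun x => Subtype.ext (bcH1Same_comp_eq b a x.1))⟩

variable [Algebra.IsPushout R R' S S'] {ι : Type u}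

variable (R' S') in
/-- The base changed generators. -/
def genBC (G : Generators R S ι) : Generators R' S' ι :=
  Algebra.Generators.ofSurjective (fun i => algebraMap S S' (G.val i)) <| by
    intro y
    obtain ⟨z, rfl⟩ := (Algebra.IsPushout.equiv R R' S S').surjective y
    induction z with
    | zero => exact ⟨0, by rw [map_zero, map_zero]⟩
    | add a b ha hb =>
      obtain ⟨p, hp⟩ := ha
      obtain ⟨q, hq⟩ := hb
      exact ⟨p + q, by rw [map_add, map_add, hp, hq]⟩
    | tmul t s =>
      refine ⟨MvPolynomial.C t * MvPolynomial.map (algebraMap R R') (G.σ s), ?_⟩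
      rw [map_mul, MvPolynomial.aeval_C, MvPolynomial.aeval_map_algebraMap, Algebra.IsPushout.equiv_tmul]
      congr 1
      exact (MvPolynomial.aeval_algebraMap_apply (B := S') G.val (G.σ s)).trans (congrArg _ (G.aeval_val_σ s))

end Transfer

/-- Any finite presentation of a complete intersection has finite projective conormal module. -/
theorem finite_projective_cotangent {A B : Type u} [CommRing A] [CommRing B] [Algebra A B] (h : LCI.IsLCI A B)
    {ι : Type u} [Finite ι] (G : Generators A B ι) :
    Module.Finite B G.toExtension.Cotangent ∧ Module.Projective B G.toExtension.Cotangent := by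
  obtain ⟨-, d, π, hπ, hk⟩ := h
  haveI : Algebra.FinitePresentation A B :=
    Algebra.FinitePresentation.of_surjective hπ (Groth.L07.KoszulIdeal.fg_of_isKoszulRegularIdeal hk)
  haveI := Groth.L14.NLAmp.projective_gens π hπ hk
  haveI := Groth.L14.NLAmp.finite_cotangent π hπ
  haveI : Module.Free B G.toExtension.CotangentSpace := Module.Free.of_basis G.cotangentSpaceBasis
  haveI : Module.Finite B G.toExtension.CotangentSpace := Module.Finite.of_basis G.cotangentSpaceBasis
  let f := (Generators.defaultHom G (Groth.L14.NLAmp.gens π hπ)).toExtensionHom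
  let g := (Generators.defaultHom (Groth.L14.NLAmp.gens π hπ) G).toExtensionHom
  exact ⟨Module.Finite.of_surjective (Groth.L14.NLAmp.retr f g) fun x =>
    ⟨_, LinearMap.congr_fun (Groth.L14.NLAmp.retr_incl f g) x⟩, Groth.L14.NLAmp.projective_of_homs f g⟩

variable {A B A' B' : Type u} [CommRing A] [CommRing B] [Algebra A B] [CommRing A'] [CommRing B'] [Algebra A' B']
  [Algebra A A'] [Algebra B B'] [Algebra A B'] [IsScalarTower A A' B'] [IsScalarTower A B B']
  [Algebra.IsPushout A A' B B']

theorem finite_projective_ker_bcH1Map (hB : LCI.IsLCI A B) (hB' : LCI.IsLCI A' B') :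
    Module.Finite B' (LinearMap.ker (NLCx.bcH1Map
        ((Algebra.Generators.self A B).defaultHom (Algebra.Generators.self A' B')).toExtensionHom)) ∧
      Module.Projective B' (LinearMap.ker (NLCx.bcH1Map
        ((Algebra.Generators.self A B).defaultHom (Algebra.Generators.self A' B')).toExtensionHom)) := by
  obtain ⟨-, d, π, hπ, -⟩ := id hB
  let E := Algebra.Generators.self A B
  let E' := Algebra.Generators.self A' B'
  let G : Generators A B (ULift.{u} (Fin d)) :=
    Generators.ofSurjective (fun i => π (MvPolynomial.X i.down)) fun y => by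
      obtain ⟨p, rfl⟩ := hπ y
      refine ⟨MvPolynomial.rename ULift.up p, ?_⟩
      rw [MvPolynomial.aeval_rename]
      exact DFunLike.congr_fun (show MvPolynomial.aeval _ = π from MvPolynomial.algHom_ext fun i => by simp) p
  let G' := genBC A' B' G
  obtain ⟨hf, hp⟩ := finite_projective_cotangent hB G
  obtain ⟨hf', hp'⟩ := finite_projective_cotangent hB' G'
  haveI := hf; haveI := hp; haveI := hf'; haveI := hp'
  let F := (NLCx.sameVarsHom G G' fun i => rfl).toExtensionHom
  obtain ⟨s, hs⟩ := Module.projective_lifting_property (c₁ F) LinearMap.id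
    (c₁_sameVars_surjective_and G G' fun i => rfl).1
  let K := LinearMap.ker (c₁ F)
  let pr : B' ⊗[B] G.toExtension.Cotangent →ₗ[B'] K :=
    (LinearMap.id - s ∘ₗ c₁ F).codRestrict K fun x => by
      rw [LinearMap.mem_ker, LinearMap.sub_apply, map_sub, LinearMap.comp_apply, LinearMap.id_apply,
        ← LinearMap.comp_apply (f := c₁ F), hs, LinearMap.id_apply, sub_self]
  have hpr : pr ∘ₗ K.subtype = LinearMap.id := LinearMap.ext fun x => Subtype.ext (by
    show x.1 - s (c₁ F x.1) = x.1
    rw [show c₁ F x.1 = 0 from x.2, map_zero, sub_zero])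
  have hK : Module.Finite B' K ∧ Module.Projective B' K :=
    ⟨Module.Finite.of_surjective pr fun x => ⟨x.1, LinearMap.congr_fun hpr x⟩,
      Module.Projective.of_split K.subtype pr hpr⟩
  let e : LinearMap.ker (NLCx.bcH1Map F) ≃ₗ[B'] K :=
    { toFun := fun x => ⟨x.1.1, congrArg Subtype.val x.2⟩
      map_add' := fun _ _ => rfl
      map_smul' := fun _ _ => rfl
      invFun := fun x => ⟨⟨x.1, (c₀_sameVars_bijective G G' fun i => rfl).1 (by
        rw [map_zero, ← LinearMap.comp_apply, ← comm_c, LinearMap.comp_apply, show c₁ F x.1 = 0 from x.2, map_zero])⟩,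
        LinearMap.mem_ker.2 (Subtype.ext x.2)⟩
      left_inv := fun _ => rfl
      right_inv := fun _ => rfl }
  obtain ⟨e'⟩ := nonempty_ker_equiv (E.defaultHom G).toExtensionHom (G.defaultHom E).toExtensionHom
    (G'.defaultHom E').toExtensionHom (E'.defaultHom G').toExtensionHom F
    (E.defaultHom E').toExtensionHom
  haveI := hK.1; haveI := hK.2
  exact ⟨Module.Finite.equiv (e.symm.trans e'), Module.Projective.of_equiv (e.symm.trans e')⟩

end Groth.L20.NL
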