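import Groth.Agent.L20.NL.Two

/-!
# Base change maps of naive cotangent complexes: composition, homotopies
-/

set_option autoImplicit false
set_option linter.style.haveILetI false
set_option backward.isDefEq.respectTransparency.types false
universe u

open CategoryTheory TensorProduct Algebra

noncomputable section

namespace Groth.L20.NL

variable {R S R' S' : Type u} [CommRing R] [CommRing S] [Algebra R S] [CommRing R'] [CommRing S'] [Algebra R' S']
  [Algebra R R'] [Algebra S S'] [Algebra R S'] [IsScalarTower R R' S'] [IsScalarTower R S S']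

variable {P Q : Algebra.Extension.{u} R S} {P' Q' : Algebra.Extension.{u} R' S'}

/-- The base change map in degree `-1`. -/
abbrev c₁ (f : P.Hom P') : S' ⊗[S] P.Cotangent →ₗ[S'] P'.Cotangent :=
  LinearMap.liftBaseChange S' (Extension.Cotangent.map f)

/-- The base change map in degree `0`. -/
abbrev c₀ (f : P.Hom P') : S' ⊗[S] P.CotangentSpace →ₗ[S'] P'.CotangentSpace :=
  LinearMap.liftBaseChange S' (Extension.CotangentSpace.map f)

theorem comm_c (f : P.Hom P') :
    P'.cotangentComplex ∘ₗ c₁ f = c₀ f ∘ₗ P.cotangentComplex.baseChange S' :=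
  TensorProduct.AlgebraTensorModule.ext fun s x => by
    simp [c₁, c₀, Extension.CotangentSpace.map_cotangentComplex]

theorem bcMap_eq (f : P.Hom P') :
    NLCx.bcMap f = dblHom (P.cotangentComplex.baseChange S') P'.cotangentComplex (c₁ f) (c₀ f) (comm_c f) :=
  rfl

theorem comm_same (a : P.Hom Q) :
    Q.cotangentComplex.baseChange S' ∘ₗ (Extension.Cotangent.map a).baseChange S' =
      (Extension.CotangentSpace.map a).baseChange S' ∘ₗ P.cotangentComplex.baseChange S' :=
  TensorProduct.AlgebraTensorModule.ext fun s x => by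
    simp [Extension.CotangentSpace.map_cotangentComplex]

variable (S') in
/-- The map of base changed complexes of a map of presentations of the same ring. -/
def bcSame (a : P.Hom Q) :
    NLCx.bcCx P S' ⟶ NLCx.bcCx Q S' :=
  dblHom _ _ ((Extension.Cotangent.map a).baseChange S') ((Extension.CotangentSpace.map a).baseChange S') (comm_same a)

theorem comm_map (g : P'.Hom Q') :
    Q'.cotangentComplex ∘ₗ Extension.Cotangent.map g = Extension.CotangentSpace.map g ∘ₗ P'.cotangentComplex :=
  (Extension.CotangentSpace.map_comp_cotangentComplex g).symm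

theorem map_eq (g : P'.Hom Q') :
    NLCx.map g = dblHom P'.cotangentComplex Q'.cotangentComplex (Extension.Cotangent.map g)
      (Extension.CotangentSpace.map g) (comm_map g) :=
  rfl

/-- The difference of two base change maps. -/
abbrev csub (f g : P.Hom P') : S' ⊗[S] P.CotangentSpace →ₗ[S'] P'.Cotangent :=
  LinearMap.liftBaseChange S' (f.sub g)

theorem c₁_sub (f g : P.Hom P') : c₁ f - c₁ g = csub f g ∘ₗ P.cotangentComplex.baseChange S' :=
  TensorProduct.AlgebraTensorModule.ext fun s x => by
    have := LinearMap.congr_fun (Extension.Cotangent.map_sub_map f g) x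
    simp only [LinearMap.sub_apply, LinearMap.comp_apply] at this
    simp [c₁, csub, ← smul_sub, this]

theorem c₀_sub (f g : P.Hom P') : c₀ f - c₀ g = P'.cotangentComplex ∘ₗ csub f g :=
  TensorProduct.AlgebraTensorModule.ext fun s x => by
    have := LinearMap.congr_fun (Extension.CotangentSpace.map_sub_map f g) x
    simp only [LinearMap.sub_apply, LinearMap.comp_apply, LinearMap.coe_restrictScalars] at this
    simp [c₀, csub, ← smul_sub, this]

/-- The base change maps of any two homomorphisms are homotopic. -/
theorem homotopic_bcMap (f g : P.Hom P') : Nonempty (Homotopy (NLCx.bcMap f) (NLCx.bcMap g)) :=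
  homotopic_dblHom (comm_c f) (comm_c g) (csub f g) (c₁_sub f g) (c₀_sub f g)

/-- Maps of base changed complexes of two homomorphisms over the same ring are homotopic. -/
theorem homotopic_bcSame (a b : P.Hom Q) : Nonempty (Homotopy (bcSame S' a) (bcSame S' b)) :=
  homotopic_dblHom _ _ ((a.sub b).baseChange S')
    (by rw [← LinearMap.baseChange_sub, Extension.Cotangent.map_sub_map, LinearMap.baseChange_comp])
    (by
      rw [← LinearMap.baseChange_sub, Extension.CotangentSpace.map_sub_map]
      exact LinearMap.baseChange_comp _ _)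

/-- Maps of complexes of two homomorphisms are homotopic. -/
theorem homotopic_map (g₁ g₂ : P'.Hom Q') : Nonempty (Homotopy (NLCx.map g₁) (NLCx.map g₂)) :=
  homotopic_dblHom (comm_map g₁) (comm_map g₂) (g₁.sub g₂) (Extension.Cotangent.map_sub_map g₁ g₂)
    ((Extension.CotangentSpace.map_sub_map g₁ g₂).trans rfl)

theorem c₁_comp_same (a : P.Hom Q) (f : Q.Hom P') :
    c₁ (f.comp a) = c₁ f ∘ₗ (Extension.Cotangent.map a).baseChange S' :=
  TensorProduct.AlgebraTensorModule.ext fun s x => by
    simp [c₁, Extension.Cotangent.map_comp]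

theorem c₁_comp_map (f : P.Hom P') (g : P'.Hom Q') :
    c₁ (g.comp f) = Extension.Cotangent.map g ∘ₗ c₁ f :=
  TensorProduct.AlgebraTensorModule.ext fun s x => by
    simp [c₁, Extension.Cotangent.map_comp]

theorem c₀_comp_same (a : P.Hom Q) (f : Q.Hom P') :
    c₀ (f.comp a) = c₀ f ∘ₗ (Extension.CotangentSpace.map a).baseChange S' :=
  TensorProduct.AlgebraTensorModule.ext fun s x => by
    simp [c₀, Extension.CotangentSpace.map_comp]

theorem c₀_comp_map (f : P.Hom P') (g : P'.Hom Q') :
    c₀ (g.comp f) = Extension.CotangentSpace.map g ∘ₗ c₀ f :=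
  TensorProduct.AlgebraTensorModule.ext fun s x => by
    simp [c₀, Extension.CotangentSpace.map_comp]

theorem bcSame_comp_bcMap (a : P.Hom Q) (f : Q.Hom P') : bcSame S' a ≫ NLCx.bcMap f = NLCx.bcMap (f.comp a) := by
  rw [bcMap_eq, bcMap_eq]
  exact (dblHom_comp _ _).trans (dblHom_congr _ _ (c₁_comp_same a f).symm (c₀_comp_same a f).symm)

theorem bcMap_comp_map (f : P.Hom P') (g : P'.Hom Q') : NLCx.bcMap f ≫ NLCx.map g = NLCx.bcMap (g.comp f) := by
  rw [bcMap_eq, bcMap_eq, map_eq]
  exact (dblHom_comp _ _).trans (dblHom_congr _ _ (c₁_comp_map f g).symm (c₀_comp_map f g).symm)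

theorem bcSame_comp {T : Algebra.Extension.{u} R S} (a : P.Hom Q) (b : Q.Hom T) :
    bcSame S' a ≫ bcSame S' b = bcSame S' (b.comp a) :=
  (dblHom_comp _ _).trans (dblHom_congr _ _
    (by rw [← LinearMap.baseChange_comp, Extension.Cotangent.map_comp]; rfl)
    (by rw [← LinearMap.baseChange_comp, Extension.CotangentSpace.map_comp]; rfl))

theorem map_comp_map {T' : Algebra.Extension.{u} R' S'} (g : P'.Hom Q') (g₂ : Q'.Hom T') :
    NLCx.map g ≫ NLCx.map g₂ = NLCx.map (g₂.comp g) := by
  rw [map_eq, map_eq, map_eq]
  exact (dblHom_comp _ _).trans (dblHom_congr _ _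
    (by rw [Extension.Cotangent.map_comp]; rfl) (by rw [Extension.CotangentSpace.map_comp]; rfl))

theorem bcSame_id : bcSame S' (Extension.Hom.id P) = 𝟙 _ := by
  refine (dblHom_congr (d := P.cotangentComplex.baseChange S') (d' := P.cotangentComplex.baseChange S')
    (a₂ := LinearMap.id) (b₂ := LinearMap.id) (comm_same _) rfl ?_ ?_).trans dblHom_id
  · rw [Extension.Cotangent.map_id, LinearMap.baseChange_id]
  · rw [Extension.CotangentSpace.map_id, LinearMap.baseChange_id]

theorem map_id' : NLCx.map (Extension.Hom.id P') = 𝟙 _ := by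
  rw [map_eq]
  exact (dblHom_congr (d := P'.cotangentComplex) (d' := P'.cotangentComplex) (a₂ := LinearMap.id) (b₂ := LinearMap.id)
    (comm_map _) rfl Extension.Cotangent.map_id Extension.CotangentSpace.map_id).trans dblHom_id

variable (S') in
/-- Presentations connected both ways have homotopy equivalent base changed complexes. -/
def bcEquiv (a : P.Hom Q) (b : Q.Hom P) : HomotopyEquiv (NLCx.bcCx P S') (NLCx.bcCx Q S') where
  hom := bcSame S' a
  inv := bcSame S' b
  homotopyHomInvId := (Homotopy.ofEq (bcSame_comp a b)).trans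
    ((homotopic_bcSame (b.comp a) (Extension.Hom.id P)).some.trans (Homotopy.ofEq bcSame_id))
  homotopyInvHomId := (Homotopy.ofEq (bcSame_comp b a)).trans
    ((homotopic_bcSame (a.comp b) (Extension.Hom.id Q)).some.trans (Homotopy.ofEq bcSame_id))

/-- Presentations connected both ways have homotopy equivalent complexes. -/
def mapEquiv (a : P'.Hom Q') (b : Q'.Hom P') : HomotopyEquiv (NLCx.cx P') (NLCx.cx Q') where
  hom := NLCx.map a
  inv := NLCx.map b
  homotopyHomInvId := (Homotopy.ofEq (map_comp_map a b)).trans
    ((homotopic_map (b.comp a) (Extension.Hom.id P')).some.trans (Homotopy.ofEq map_id'))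
  homotopyInvHomId := (Homotopy.ofEq (map_comp_map b a)).trans
    ((homotopic_map (a.comp b) (Extension.Hom.id Q')).some.trans (Homotopy.ofEq map_id'))

/-- A homotopy equivalence with prescribed homotopic forward map. -/
def equivOfHomotopic {C D : DRing.Cx S'} (e : HomotopyEquiv C D) (φ : C ⟶ D) (h : Homotopy φ e.hom) :
    HomotopyEquiv C D where
  hom := φ
  inv := e.inv
  homotopyHomInvId := (h.compRight e.inv).trans e.homotopyHomInvId
  homotopyInvHomId := (h.compLeft e.inv).trans e.homotopyInvHomId

/-- If one comparison map is an isomorphism, any comparison map is a homotopy equivalence. -/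
theorem exists_equiv_of_isIso (a : P.Hom Q) (b : Q.Hom P) (a' : Q'.Hom P') (b' : P'.Hom Q') (f : Q.Hom Q')
    [IsIso (NLCx.bcMap f)] (g : P.Hom P') :
    ∃ e : HomotopyEquiv (NLCx.bcCx P S') (NLCx.cx P'), e.hom = NLCx.bcMap g := by
  let e₀ := ((bcEquiv S' a b).trans (HomotopyEquiv.ofIso (asIso (NLCx.bcMap f)))).trans (mapEquiv a' b')
  have he : e₀.hom = NLCx.bcMap (a'.comp (f.comp a)) := by
    show (bcSame S' a ≫ NLCx.bcMap f) ≫ NLCx.map a' = _
    rw [bcSame_comp_bcMap, bcMap_comp_map]
  exact ⟨equivOfHomotopic e₀ _ ((homotopic_bcMap g _).some.trans (Homotopy.ofEq he.symm)), rfl⟩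

/-- The maps in degree `-1` of homotopic squares agree on the kernels. -/
theorem c₁_eq_of_mem (f g : P.Hom P') {x : S' ⊗[S] P.Cotangent} (hx : x ∈ NLCx.bcH1 P S') : c₁ f x = c₁ g x := by
  have := LinearMap.congr_fun (c₁_sub f g) x
  rw [LinearMap.sub_apply, LinearMap.comp_apply, show P.cotangentComplex.baseChange S' x = 0 from hx, map_zero,
    sub_eq_zero] at this
  exact this

/-- Surjectivity on degree `-1` cohomology passes between presentations connected both ways. -/
theorem bcH1_surjective_transfer (b : Q.Hom P) (a' : Q'.Hom P') (b' : P'.Hom Q') (f : Q.Hom Q') (g : P.Hom P')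
    (hf : Function.Surjective (NLCx.bcH1Map f)) : Function.Surjective (NLCx.bcH1Map g) := by
  rintro ⟨y, hy⟩
  obtain ⟨⟨x, hx⟩, e⟩ := hf (Extension.H1Cotangent.map b' ⟨y, hy⟩)
  have e' : c₁ f x = Extension.Cotangent.map b' y := congrArg Subtype.val e
  have hx' : P.cotangentComplex.baseChange S' ((Extension.Cotangent.map b).baseChange S' x) = 0 := by
    have := LinearMap.congr_fun (comm_same (S' := S') b) x
    simp only [LinearMap.comp_apply] at this
    rw [this, show Q.cotangentComplex.baseChange S' x = 0 from hx, map_zero]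
  refine ⟨⟨_, hx'⟩, Subtype.ext ?_⟩
  show c₁ g ((Extension.Cotangent.map b).baseChange S' x) = y
  rw [← LinearMap.comp_apply, ← c₁_comp_same, c₁_eq_of_mem (g.comp b) (a'.comp f) hx, c₁_comp_map,
    LinearMap.comp_apply, e']
  have := LinearMap.congr_fun (Extension.Cotangent.map_sub_map (a'.comp b') (Extension.Hom.id P')) y
  rw [LinearMap.sub_apply, LinearMap.comp_apply, show P'.cotangentComplex y = 0 from hy, map_zero, sub_eq_zero,
    Extension.Cotangent.map_comp, Extension.Cotangent.map_id] at this
  simpa using this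

end Groth.L20.NL
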