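import Groth.Agent.L20.NL.Maps
import Groth.Agent.L28.HomElt

/-!
# Quasi-isomorphisms of complexes in two degrees
-/

set_option autoImplicit false
set_option linter.style.haveILetI false
universe u

open CategoryTheory CategoryTheory.Limits HomologicalComplex

noncomputable section

namespace Groth.L20.NL

variable {S : Type u} [CommRing S] {A B A' B' : Type u} [AddCommGroup A] [Module S A] [AddCommGroup B] [Module S B]
  [AddCommGroup A'] [Module S A'] [AddCommGroup B'] [Module S B']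

/-- The element criterion for a square to give a quasi-isomorphism. -/
theorem quasiIso_dblHom {d : A →ₗ[S] B} {d' : A' →ₗ[S] B'} {a : A →ₗ[S] A'} {b : B →ₗ[S] B'}
    (comm : d' ∘ₗ a = b ∘ₗ d) (hi₁ : ∀ x, d x = 0 → a x = 0 → x = 0)
    (hs₁ : ∀ y, d' y = 0 → ∃ x, d x = 0 ∧ a x = y) (hi₀ : ∀ x w, b x = d' w → ∃ v, d v = x)
    (hs₀ : ∀ y, ∃ x w, b x + d' w = y) : QuasiIso (dblHom d d' a b comm) := by
  have hr : (ComplexShape.up ℤ).Rel (-1) 0 := by simp
  have hne : (-1 : ℤ) ≠ 0 := by decide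
  let e₀ := (doubleXIso₀ (ModuleCat.ofHom d) hr).toLinearEquiv
  let e₁ := (doubleXIso₁ (ModuleCat.ofHom d) hr hne).toLinearEquiv
  let e₀' := (doubleXIso₀ (ModuleCat.ofHom d') hr).toLinearEquiv
  let e₁' := (doubleXIso₁ (ModuleCat.ofHom d') hr hne).toLinearEquiv
  have hf₀ : ∀ x, (dblHom d d' a b comm).f (-1) x = e₀'.symm (a (e₀ x)) := fun x => by
    simp [dblHom, e₀, e₀']; rfl
  have hf₁ : ∀ x, (dblHom d d' a b comm).f 0 x = e₁'.symm (b (e₁ x)) := fun x => by
    simp [dblHom, e₁, e₁']; rfl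
  have hd : ∀ x, (dbl d).d (-1) 0 x = e₁.symm (d (e₀ x)) := fun x => by
    simp [double_d _ _ hne, e₀, e₁]; rfl
  have hd' : ∀ x, (dbl d').d (-1) 0 x = e₁'.symm (d' (e₀' x)) := fun x => by
    simp [double_d _ _ hne, e₀', e₁']; rfl
  have hp : (ComplexShape.up ℤ).prev (-1) = -2 := (ComplexShape.up ℤ).prev_eq' (show (-2 : ℤ) + 1 = -1 by omega)
  have hp0 : (ComplexShape.up ℤ).prev 0 = -1 := (ComplexShape.up ℤ).prev_eq' (show (-1 : ℤ) + 1 = 0 by omega)
  have hn : (ComplexShape.up ℤ).next (-1) = 0 := (ComplexShape.up ℤ).next_eq' (show (-1 : ℤ) + 1 = 0 by omega)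
  have hn0 : (ComplexShape.up ℤ).next 0 = 1 := (ComplexShape.up ℤ).next_eq' (show (0 : ℤ) + 1 = 1 by omega)
  refine Groth.L28.HomElt.quasiIso_of_bijective _ fun j => ?_
  by_cases h₁ : j = -1
  · subst h₁
    refine ⟨(Groth.L28.HomElt.injective_homologyMap_iff _ hp hn).2 fun x w hx he => ⟨0, ?_⟩,
      (Groth.L28.HomElt.surjective_homologyMap_iff _ hp hn).2 fun y hy => ?_⟩
    · rw [hd, LinearEquiv.map_eq_zero_iff] at hx
      rw [double_d_eq_zero₀ _ _ _ _ (by omega)] at he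
      rw [hf₀] at he
      have : a (e₀ x) = 0 := e₀'.symm.map_eq_zero_iff.1 he
      rw [map_zero]
      exact (e₀.map_eq_zero_iff.1 (hi₁ _ hx this)).symm
    · rw [hd', LinearEquiv.map_eq_zero_iff] at hy
      obtain ⟨x, hx, hxy⟩ := hs₁ _ hy
      refine ⟨e₀.symm x, 0, ?_, ?_⟩
      · rw [hd, LinearEquiv.apply_symm_apply, hx, map_zero]
      · rw [hf₀, LinearEquiv.apply_symm_apply, hxy, LinearEquiv.symm_apply_apply, map_zero, add_zero]
  · by_cases h₀ : j = 0
    · subst h₀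
      refine ⟨(Groth.L28.HomElt.injective_homologyMap_iff _ hp0 hn0).2 fun x w _ he => ?_,
        (Groth.L28.HomElt.surjective_homologyMap_iff _ hp0 hn0).2 fun y _ => ?_⟩
      · rw [hf₁, hd'] at he
        obtain ⟨v, hv⟩ := hi₀ _ _ (e₁'.symm.injective he)
        exact ⟨e₀.symm v, by rw [hd, LinearEquiv.apply_symm_apply, hv, LinearEquiv.symm_apply_apply]⟩
      · obtain ⟨x, w, hxw⟩ := hs₀ (e₁' y)
        refine ⟨e₁.symm x, e₀'.symm w, ?_, ?_⟩
        · rw [double_d_eq_zero₀ _ _ _ _ (by omega)]; rfl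
        · rw [hf₁, hd', LinearEquiv.apply_symm_apply, LinearEquiv.apply_symm_apply, ← map_add, hxw,
            LinearEquiv.symm_apply_apply]
    · have hz := isZero_double_X (ModuleCat.ofHom d) hr j h₁ h₀
      have hz' := isZero_double_X (ModuleCat.ofHom d') hr j h₁ h₀
      haveI := ModuleCat.subsingleton_of_isZero
        ((exactAt_iff_isZero_homology _ j).1 (ExactAt.of_isZero hz))
      haveI := ModuleCat.subsingleton_of_isZero
        ((exactAt_iff_isZero_homology _ j).1 (ExactAt.of_isZero hz'))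
      exact ⟨Function.injective_of_subsingleton _, fun y => ⟨0, Subsingleton.elim _ _⟩⟩

end Groth.L20.NL
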