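import Groth.Agent.L20.NL.Maps
import Groth.Agent.L02.Flat
import Mathlib.RingTheory.Extension.Cotangent.BaseChange
import Mathlib.RingTheory.TensorProduct.MvPolynomial

/-!
# Base change of a presentation on the same variables
-/

set_option autoImplicit false
set_option linter.style.haveILetI false
set_option backward.isDefEq.respectTransparency.types false
universe u

open CategoryTheory TensorProduct Algebra

noncomputable section

namespace Groth.L20.NL

set_option backward.defeqAttrib.useBackward true in
set_option maxHeartbeats 400000 in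
/-- The cotangent space of an ideal with flat quotient commutes with base change. -/
theorem tensorCotangentHom_injective_of_flat_quotient (R : Type u) {S : Type u} [CommRing R] [CommRing S]
    [Algebra R S] (T : Type u) [CommRing T] [Algebra R T] (I : Ideal S) [Module.Flat R (S ⧸ I)] :
    Function.Injective (I.tensorCotangentHom R T) := by
  let a : S →+* T ⊗[R] S := Algebra.TensorProduct.includeRight.toRingHom
  let f : (I.map a).Cotangent →ₗ[T] T ⊗[R] S ⧸ (I.map a) ^ 2 :=
    (Ideal.cotangentToQuotientSquare _).restrictScalars T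
  suffices h : Function.Injective (f ∘ₗ I.tensorCotangentHom R T) from .of_comp h
  let g : T ⊗[R] I.Cotangent →ₗ[T] T ⊗[R] (S ⧸ I ^ 2) :=
    AlgebraTensorModule.lTensor T T (I.cotangentToQuotientSquare.restrictScalars R)
  let hₐ : T ⊗[R] (S ⧸ I ^ 2) ≃ₐ[T] T ⊗[R] S ⧸ (I.map a) ^ 2 :=
    (Algebra.TensorProduct.tensorQuotientEquiv _ _ _ _).trans
      (Ideal.quotientEquivAlgOfEq T (Ideal.map_pow _ _ _))
  have : f ∘ₗ I.tensorCotangentHom R T = hₐ.toLinearMap ∘ₗ g := by
    refine TensorProduct.AlgebraTensorModule.curry_injective (LinearMap.ext_ring (LinearMap.ext fun c => ?_))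
    obtain ⟨x, rfl⟩ := I.toCotangent_surjective c
    show Ideal.cotangentToQuotientSquare _ (I.tensorCotangentHom R T (1 ⊗ₜ I.toCotangent x)) =
      hₐ (1 ⊗ₜ I.cotangentToQuotientSquare (I.toCotangent x))
    erw [Ideal.tensorCotangentHom_tmul]
    erw [one_smul, Ideal.toCotangent_to_quotient_square]
  rw [this, LinearMap.coe_comp]
  refine hₐ.injective.comp ?_
  let q : (S ⧸ I ^ 2) →ₗ[R] S ⧸ I :=
    (Ideal.Quotient.factorₐ R (Ideal.pow_le_self (two_ne_zero) : I ^ 2 ≤ I)).toLinearMap
  have hex : Function.Exact (I.cotangentToQuotientSquare.restrictScalars R) q := by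
    intro y
    obtain ⟨y, rfl⟩ := Ideal.Quotient.mk_surjective y
    show Ideal.Quotient.mk I y = 0 ↔ _
    rw [Ideal.Quotient.eq_zero_iff_mem]
    refine ⟨fun hy => ⟨I.toCotangent ⟨y, hy⟩, rfl⟩, ?_⟩
    rintro ⟨c, hc⟩
    obtain ⟨c, rfl⟩ := I.toCotangent_surjective c
    have hc' : Ideal.Quotient.mk (I ^ 2) (c : S) = Ideal.Quotient.mk (I ^ 2) y := hc
    have := Ideal.pow_le_self two_ne_zero (Ideal.Quotient.eq.1 hc')
    simpa using I.sub_mem c.2 this
  have hU := Groth.L02.universallyInjective_of_flat_coker (I.cotangentToQuotientSquare.restrictScalars R) q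
    I.cotangentToQuotientSquare_injective hex fun y => by
      obtain ⟨y, rfl⟩ := Ideal.Quotient.mk_surjective y
      exact ⟨Ideal.Quotient.mk _ y, rfl⟩
  exact (LinearMap.lTensor_inj_iff_rTensor_inj T _).2 (hU T)

variable {R S R' S' : Type u} [CommRing R] [CommRing S] [Algebra R S] [CommRing R'] [CommRing S'] [Algebra R' S']
  [Algebra R R'] [Algebra S S'] [Algebra R S'] [IsScalarTower R R' S'] [IsScalarTower R S S']
  {ι : Type u} (G : Algebra.Generators R S ι) (G' : Algebra.Generators R' S' ι)
  (h : ∀ i, G'.val i = algebraMap S S' (G.val i))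

theorem c₀_sameVars_bijective : Function.Bijective (c₀ (NLCx.sameVarsHom G G' h).toExtensionHom) := by
  let b := G.cotangentSpaceBasis.baseChange S'
  let b' := G'.cotangentSpaceBasis
  have : c₀ (NLCx.sameVarsHom G G' h).toExtensionHom = (b.equiv b' (Equiv.refl ι)).toLinearMap := b.ext fun i => by
    rw [LinearEquiv.coe_toLinearMap, Module.Basis.equiv_apply, Equiv.refl_apply, Module.Basis.baseChange_apply]
    simp only [c₀, LinearMap.liftBaseChange_tmul, one_smul, Algebra.Generators.cotangentSpaceBasis_apply,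
      b']
    erw [Extension.CotangentSpace.map_tmul]
    rw [map_one]
    congr 2
    show (NLCx.sameVarsHom G G' h).toAlgHom (MvPolynomial.X i) = MvPolynomial.X i
    simp [Algebra.Generators.Hom.toAlgHom, NLCx.sameVarsHom]
  rw [this]
  exact (b.equiv b' (Equiv.refl ι)).bijective

variable [Algebra.IsPushout R R' S S']

set_option maxHeartbeats 1000000 in
theorem c₁_sameVars_surjective_and :
    Function.Surjective (c₁ (NLCx.sameVarsHom G G' h).toExtensionHom) ∧
      ((Module.Flat R R' ∨ Module.Flat R S) → Function.Injective (c₁ (NLCx.sameVarsHom G G' h).toExtensionHom)) := by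
  let F := (NLCx.sameVarsHom G G' h).toExtensionHom
  let P := MvPolynomial ι R
  let π : P →ₐ[R] S := MvPolynomial.aeval G.val
  let π' : MvPolynomial ι R' →ₐ[R'] S' := MvPolynomial.aeval G'.val
  let I : Ideal P := G.toExtension.ker
  let I' : Ideal (MvPolynomial ι R') := G'.toExtension.ker
  have hI : ∀ x, x ∈ I ↔ π x = 0 := fun x => by
    show algebraMap G.Ring S x = 0 ↔ _
    rw [Algebra.Generators.algebraMap_apply]
  have hI' : ∀ x, x ∈ I' ↔ π' x = 0 := fun x => by
    show algebraMap G'.Ring S' x = 0 ↔ _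
    rw [Algebra.Generators.algebraMap_apply]
  let Φ : R' ⊗[R] P ≃ₐ[R'] MvPolynomial ι R' := MvPolynomial.algebraTensorAlgEquiv R R'
  let η : R' ⊗[R] S ≃ₐ[R'] S' := Algebra.IsPushout.equiv R R' S S'
  have hΦ : ∀ p : P, Φ (1 ⊗ₜ p) = MvPolynomial.map (algebraMap R R') p := fun p => by
    rw [MvPolynomial.algebraTensorAlgEquiv_tmul, one_smul]
  have hsq : π'.comp Φ.toAlgHom = η.toAlgHom.comp (Algebra.TensorProduct.map (AlgHom.id R' R') π) := by
    apply Algebra.TensorProduct.ext
    · ext
    · apply MvPolynomial.algHom_ext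
      intro i
      show π' (Φ (1 ⊗ₜ MvPolynomial.X i)) = η (Algebra.TensorProduct.map (AlgHom.id R' R') π (1 ⊗ₜ MvPolynomial.X i))
      rw [hΦ, MvPolynomial.map_X, Algebra.TensorProduct.map_tmul, AlgHom.id_apply, Algebra.IsPushout.equiv_tmul]
      simp only [π, π', P, map_one, one_mul, one_smul]
      erw [MvPolynomial.aeval_X, MvPolynomial.aeval_X]
      exact h i
  have hπs : Function.Surjective π := fun y => ⟨G.σ y, G.aeval_val_σ y⟩
  let J : Ideal (R' ⊗[R] P) := I.map (Algebra.TensorProduct.includeRight.toRingHom : P →+* R' ⊗[R] P)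
  have hJ : J = I'.comap Φ.toAlgHom := by
    have e := Algebra.TensorProduct.lTensor_ker (A := R') π hπs
    ext z
    rw [Ideal.mem_comap, hI', show π' (Φ.toAlgHom z) = η (Algebra.TensorProduct.map (AlgHom.id R' R') π z)
      from AlgHom.congr_fun hsq z, EmbeddingLike.map_eq_zero_iff]
    show z ∈ I.map _ ↔ _
    rw [show I = RingHom.ker π from Ideal.ext fun x => hI x]
    erw [← e]
    rw [RingHom.mem_ker]
    have e2 : (Algebra.TensorProduct.map (AlgHom.id R' R') π).restrictScalars R =
        Algebra.TensorProduct.map (AlgHom.id R R') π := Algebra.TensorProduct.ext' fun a b => rfl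
    rw [← e2]
    rfl
  let T₂ : J.Cotangent →ₗ[R'] I'.Cotangent := Ideal.mapCotangent J I' Φ.toAlgHom hJ.le
  have hT₂ : Function.Bijective T₂ := by
    have hJ' : I' ≤ J.comap Φ.symm.toAlgHom := fun x hx => by
      rw [Ideal.mem_comap, hJ, Ideal.mem_comap]
      simpa using hx
    refine Function.bijective_iff_has_inverse.2 ⟨Ideal.mapCotangent I' J Φ.symm.toAlgHom hJ', fun x => ?_, fun x => ?_⟩
    · obtain ⟨x, rfl⟩ := J.toCotangent_surjective x
      simp only [T₂, Ideal.mapCotangent_toCotangent]
      congr 1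
      exact Subtype.ext (Φ.symm_apply_apply _)
    · obtain ⟨x, rfl⟩ := I'.toCotangent_surjective x
      simp only [T₂, Ideal.mapCotangent_toCotangent]
      congr 1
      exact Subtype.ext (Φ.apply_symm_apply _)
  let ψ : R' ⊗[R] G.toExtension.Cotangent ≃ₗ[R'] R' ⊗[R] I.Cotangent :=
    TensorProduct.AlgebraTensorModule.congr (LinearEquiv.refl R' R')
      (G.toExtension.cotangentEquivCotangentKer.restrictScalars R)
  let can : S' ⊗[S] G.toExtension.Cotangent ≃ₗ[R'] R' ⊗[R] G.toExtension.Cotangent :=
    Algebra.IsPushout.cancelBaseChange R R' S S' G.toExtension.Cotangent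
  have key : ∀ z, Extension.Cotangent.val (c₁ F (can.symm z)) = T₂ (I.tensorCotangentHom R R' (ψ z)) := by
    intro z
    induction z with
    | zero => simp only [map_zero, LinearEquiv.map_zero]; rfl
    | add x y hx hy => simp only [map_add, Extension.Cotangent.val_add, hx, hy]; rfl
    | tmul t x =>
      obtain ⟨x, rfl⟩ := Extension.Cotangent.mk_surjective x
      have e1 : can.symm (t ⊗ₜ Extension.Cotangent.mk x) = algebraMap R' S' t ⊗ₜ Extension.Cotangent.mk x := by
        rw [LinearEquiv.symm_apply_eq, ← mul_one (algebraMap R' S' t), ← Algebra.smul_def, ← TensorProduct.smul_tmul',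
          map_smul, Algebra.IsPushout.cancelBaseChange_tmul, TensorProduct.smul_tmul', smul_eq_mul, mul_one]
      rw [e1, LinearMap.liftBaseChange_tmul, Extension.Cotangent.map_mk,
        IsScalarTower.algebraMap_smul S' t]
      show Extension.Cotangent.val (t • Extension.Cotangent.mk _) = T₂ (I.tensorCotangentHom R R' (t ⊗ₜ I.toCotangent x))
      rw [Ideal.tensorCotangentHom_tmul, map_smul]
      simp only [T₂, Ideal.mapCotangent_toCotangent]
      have e2 : F.toAlgHom x.1 = Φ.toAlgHom (1 ⊗ₜ (x.1 : P)) := by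
        rw [show Φ.toAlgHom (1 ⊗ₜ (x.1 : P)) = MvPolynomial.map (algebraMap R R') (x.1 : P) from hΦ _]
        show MvPolynomial.aeval (fun i => (MvPolynomial.X i : MvPolynomial ι R')) (x.1 : P) = _
        exact (MvPolynomial.aeval_map_algebraMap R' _ _).symm.trans (MvPolynomial.aeval_X_left_apply _)
      refine ((G'.toExtension.cotangentEquivCotangentKer.restrictScalars R').map_smul t _).trans ?_
      exact congrArg (fun z => t • z) (congrArg I'.toCotangent (Subtype.ext e2))
  constructor
  · intro y
    obtain ⟨w, hw⟩ := hT₂.2 y.val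
    obtain ⟨v, rfl⟩ := Ideal.tensorCotangentHom_surjective R R' I w
    exact ⟨can.symm (ψ.symm v), Extension.Cotangent.ext (by rw [key, LinearEquiv.apply_symm_apply, hw])⟩
  · intro hflat
    have hinj : Function.Injective (I.tensorCotangentHom R R') := by
      rcases hflat with hf | hf
      · exact I.tensorCotangentHom_injective_of_flat R R'
      · haveI : Module.Flat R (P ⧸ I) :=
          Module.Flat.of_linearEquiv ((Ideal.quotientEquivAlgOfEq R (Ideal.ext fun x => hI x : I = RingHom.ker π)).trans
            (Ideal.quotientKerAlgEquivOfSurjective hπs)).toLinearEquiv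
        exact tensorCotangentHom_injective_of_flat_quotient R R' I
    intro a b e
    have e' := congrArg Extension.Cotangent.val e
    rw [← can.symm_apply_apply a, ← can.symm_apply_apply b, key, key] at e'
    exact can.injective (ψ.injective (hinj (hT₂.1 e')))

theorem isIso_bcMap_sameVars (hflat : Module.Flat R R' ∨ Module.Flat R S) :
    IsIso (NLCx.bcMap (S' := S') (NLCx.sameVarsHom G G' h).toExtensionHom) := by
  rw [bcMap_eq]
  have := c₁_sameVars_surjective_and G G' h
  exact isIso_dblHom _ ⟨this.2 hflat, this.1⟩ (c₀_sameVars_bijective G G' h)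

theorem bcH1Map_sameVars_surjective :
    Function.Surjective (NLCx.bcH1Map (NLCx.sameVarsHom G G' h).toExtensionHom) := by
  rintro ⟨y, hy⟩
  obtain ⟨x, rfl⟩ := (c₁_sameVars_surjective_and G G' h).1 y
  refine ⟨⟨x, (c₀_sameVars_bijective G G' h).1 ?_⟩, rfl⟩
  rw [map_zero, ← LinearMap.comp_apply, ← comm_c, LinearMap.comp_apply]
  exact hy

end Groth.L20.NL
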