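import Groth.Agent.L20.NL.SameVars

/-!
# Base change of the presentations on all elements
-/

set_option autoImplicit false
set_option linter.style.haveILetI false
set_option backward.isDefEq.respectTransparency.types false
universe u

open CategoryTheory TensorProduct Algebra

noncomputable section

namespace Groth.L20.NL

variable {R S R' S' : Type u} [CommRing R] [CommRing S] [Algebra R S] [CommRing R'] [CommRing S'] [Algebra R' S']
  [Algebra R R'] [Algebra S S'] [Algebra R S'] [IsScalarTower R R' S'] [IsScalarTower R S S']
  [Algebra.IsPushout R R' S S']

variable (R S R' S') in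
/-- The presentation of `S'` on the elements of `S`. -/
def selfBC : Algebra.Generators R' S' S :=
  Algebra.Generators.ofSurjective (fun s => algebraMap S S' s) <| by
    intro y
    obtain ⟨z, rfl⟩ := (Algebra.IsPushout.equiv R R' S S').surjective y
    induction z with
    | zero => exact ⟨0, by rw [map_zero, map_zero]⟩
    | add a b ha hb =>
      obtain ⟨p, hp⟩ := ha
      obtain ⟨q, hq⟩ := hb
      exact ⟨p + q, by rw [map_add, map_add, hp, hq]⟩
    | tmul t s =>
      refine ⟨MvPolynomial.C t * MvPolynomial.X s, ?_⟩
      rw [map_mul, MvPolynomial.aeval_C, MvPolynomial.aeval_X, Algebra.IsPushout.equiv_tmul]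

theorem exists_homotopyEquiv_bcMapSelf (hflat : Module.Flat R R' ∨ Module.Flat R S) :
    ∃ e : HomotopyEquiv (NLCx.bcCx (Algebra.Generators.self R S).toExtension S')
        (NLCx.cx (Algebra.Generators.self R' S').toExtension), e.hom = NLCx.bcMapSelf R S R' S' := by
  let E := Algebra.Generators.self R S
  let E' := Algebra.Generators.self R' S'
  let G' := selfBC R S R' S'
  haveI := isIso_bcMap_sameVars E G' (fun i => rfl) hflat
  exact exists_equiv_of_isIso (Algebra.Extension.Hom.id _) (Algebra.Extension.Hom.id _)
    (G'.defaultHom E').toExtensionHom (E'.defaultHom G').toExtensionHom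
    (NLCx.sameVarsHom E G' fun i => rfl).toExtensionHom _

theorem bcH1Map_self_surjective :
    Function.Surjective (NLCx.bcH1Map
      ((Algebra.Generators.self R S).defaultHom (Algebra.Generators.self R' S')).toExtensionHom) := by
  let E := Algebra.Generators.self R S
  let E' := Algebra.Generators.self R' S'
  let G' := selfBC R S R' S'
  exact bcH1_surjective_transfer (Algebra.Extension.Hom.id _)
    (G'.defaultHom E').toExtensionHom (E'.defaultHom G').toExtensionHom
    (NLCx.sameVarsHom E G' fun i => rfl).toExtensionHom _ (bcH1Map_sameVars_surjective E G' fun i => rfl)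

end Groth.L20.NL
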