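import Groth.Prelude.Def_SheafNL
import Mathlib.Algebra.Homology.Homotopy
import Mathlib.Algebra.Homology.QuasiIso

/-!
# Complexes in two degrees: maps, homotopies
-/

set_option autoImplicit false
set_option linter.style.haveILetI false
universe u

open CategoryTheory CategoryTheory.Limits HomologicalComplex

noncomputable section

namespace Groth.L20.NL

variable {S : Type u} [CommRing S]
variable {A B A' B' A'' B'' : Type u} [AddCommGroup A] [Module S A] [AddCommGroup B] [Module S B]
  [AddCommGroup A'] [Module S A'] [AddCommGroup B'] [Module S B']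
  [AddCommGroup A''] [Module S A''] [AddCommGroup B''] [Module S B'']

/-- The complex `A → B` in degrees `-1` and `0`. -/
abbrev dbl (d : A →ₗ[S] B) : DRing.Cx S :=
  HomologicalComplex.double (ModuleCat.ofHom d) (show (ComplexShape.up ℤ).Rel (-1) 0 by simp)

/-- The map of two term complexes given by a commutative square. -/
def dblHom (d : A →ₗ[S] B) (d' : A' →ₗ[S] B') (a : A →ₗ[S] A') (b : B →ₗ[S] B') (comm : d' ∘ₗ a = b ∘ₗ d) :
    dbl d ⟶ dbl d' :=
  HomologicalComplex.mkHomFromDouble _ (by decide)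
    (ModuleCat.ofHom a ≫ (HomologicalComplex.doubleXIso₀ (ModuleCat.ofHom d') _).inv)
    (ModuleCat.ofHom b ≫ (HomologicalComplex.doubleXIso₁ (ModuleCat.ofHom d') _ (by decide)).inv)
    (by
      dsimp only [dbl]
      rw [HomologicalComplex.double_d _ _ (by decide)]
      simp only [Category.assoc, Iso.inv_hom_id_assoc]
      rw [← Category.assoc, ← Category.assoc]
      congr 1
      exact ModuleCat.hom_ext comm)
    (fun k hk =>
      (HomologicalComplex.isZero_double_X _ _ k (by simp at hk; omega) (by simp at hk; omega)).eq_of_tgt _ _)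

variable {d : A →ₗ[S] B} {d' : A' →ₗ[S] B'} {d'' : A'' →ₗ[S] B''}

theorem dblHom_comp {a : A →ₗ[S] A'} {b : B →ₗ[S] B'} (h : d' ∘ₗ a = b ∘ₗ d) {a' : A' →ₗ[S] A''}
    {b' : B' →ₗ[S] B''} (h' : d'' ∘ₗ a' = b' ∘ₗ d') :
    dblHom d d' a b h ≫ dblHom d' d'' a' b' h' = dblHom d d'' (a' ∘ₗ a) (b' ∘ₗ b)
      (by rw [← LinearMap.comp_assoc, h', LinearMap.comp_assoc, h, LinearMap.comp_assoc]) := by
  apply HomologicalComplex.from_double_hom_ext <;>
    simp [dblHom, ModuleCat.ofHom_comp]

theorem dblHom_id : dblHom d d LinearMap.id LinearMap.id rfl = 𝟙 (dbl d) := by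
  apply HomologicalComplex.from_double_hom_ext <;>
    simp [dblHom]

theorem dblHom_congr {a a₂ : A →ₗ[S] A'} {b b₂ : B →ₗ[S] B'} (h : d' ∘ₗ a = b ∘ₗ d) (h₂ : d' ∘ₗ a₂ = b₂ ∘ₗ d)
    (ea : a = a₂) (eb : b = b₂) : dblHom d d' a b h = dblHom d d' a₂ b₂ h₂ := by
  subst ea
  subst eb
  rfl

/-- A square of bijections gives an isomorphism of complexes. -/
theorem isIso_dblHom {a : A →ₗ[S] A'} {b : B →ₗ[S] B'} (h : d' ∘ₗ a = b ∘ₗ d) (ha : Function.Bijective a)
    (hb : Function.Bijective b) : IsIso (dblHom d d' a b h) := by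
  let ea := LinearEquiv.ofBijective a ha
  let eb := LinearEquiv.ofBijective b hb
  have h' : d ∘ₗ ea.symm.toLinearMap = eb.symm.toLinearMap ∘ₗ d' := LinearMap.ext fun x => by
    apply hb.1
    have := LinearMap.congr_fun h (ea.symm x)
    simp only [LinearMap.comp_apply] at this
    simp only [LinearMap.comp_apply, LinearEquiv.coe_toLinearMap]
    rw [← this, show a (ea.symm x) = x from ea.apply_symm_apply x, show b (eb.symm (d' x)) = d' x from eb.apply_symm_apply _]
  refine ⟨dblHom d' d ea.symm.toLinearMap eb.symm.toLinearMap h', ?_, ?_⟩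
  · rw [dblHom_comp, ← dblHom_id]
    exact dblHom_congr _ _ (LinearMap.ext fun x => ea.symm_apply_apply x) (LinearMap.ext fun x => eb.symm_apply_apply x)
  · rw [dblHom_comp, ← dblHom_id]
    exact dblHom_congr _ _ (LinearMap.ext fun x => ea.apply_symm_apply x) (LinearMap.ext fun x => eb.apply_symm_apply x)

set_option backward.isDefEq.respectTransparency false in
/-- Squares differing by a homotopy give homotopic maps. -/
theorem homotopic_dblHom {a a₂ : A →ₗ[S] A'} {b b₂ : B →ₗ[S] B'} (h : d' ∘ₗ a = b ∘ₗ d) (h₂ : d' ∘ₗ a₂ = b₂ ∘ₗ d)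
    (k : B →ₗ[S] A') (ea : a - a₂ = k ∘ₗ d) (eb : b - b₂ = d' ∘ₗ k) :
    Nonempty (Homotopy (dblHom d d' a b h) (dblHom d d' a₂ b₂ h₂)) := by
  let H : ∀ i j, (ComplexShape.up ℤ).Rel j i → ((dbl d).X i ⟶ (dbl d').X j) := fun i j r =>
    if hi : i = 0 then
      eqToHom (congrArg (dbl d).X hi) ≫ (doubleXIso₁ (ModuleCat.ofHom d) _ (by decide)).hom ≫ ModuleCat.ofHom k ≫
        (doubleXIso₀ (ModuleCat.ofHom d') _).inv ≫
        eqToHom (congrArg (dbl d').X (show (-1 : ℤ) = j by simp only [ComplexShape.up_Rel] at r; omega))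
    else 0
  have e : dblHom d d' a b h - dblHom d d' a₂ b₂ h₂ = Homotopy.nullHomotopicMap' H := by
    have hea : ModuleCat.ofHom a - ModuleCat.ofHom a₂ = ModuleCat.ofHom d ≫ ModuleCat.ofHom k :=
      ModuleCat.hom_ext ea
    have heb : ModuleCat.ofHom b - ModuleCat.ofHom b₂ = ModuleCat.ofHom k ≫ ModuleCat.ofHom d' :=
      ModuleCat.hom_ext eb
    apply HomologicalComplex.from_double_hom_ext
    · rw [Homotopy.nullHomotopicMap'_f (show (ComplexShape.up ℤ).Rel (-2) (-1) by simp)
        (show (ComplexShape.up ℤ).Rel (-1) 0 by simp)]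
      simp [H, dblHom, HomologicalComplex.double_d _ _ (show (-1 : ℤ) ≠ 0 by decide),
        ← Preadditive.comp_sub, ← Preadditive.sub_comp, hea]
    · rw [Homotopy.nullHomotopicMap'_f (show (ComplexShape.up ℤ).Rel (-1) 0 by simp)
        (show (ComplexShape.up ℤ).Rel 0 1 by simp)]
      simp [H, dblHom, HomologicalComplex.double_d _ _ (show (-1 : ℤ) ≠ 0 by decide),
        ← Preadditive.comp_sub, ← Preadditive.sub_comp, heb]
  exact ⟨Homotopy.equivSubZero.symm ((Homotopy.ofEq e).trans (Homotopy.nullHomotopy' H))⟩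

end Groth.L20.NL
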